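import Mathlib
import Groth.Agent.H78.CosetAvoid

/-!
Lead library: foundations for regular local rings.

* `Groth.Agent.Lead.RLR.quotient_regular` : quotient of a regular local ring by an element that is
  part of a minimal generating set of the maximal ideal is regular of dimension one less.
* `Groth.Agent.Lead.RLR.isDomain` : regular local rings are domains.
-/

set_option autoImplicit false

open IsLocalRing

namespace Groth.Agent.Lead.RLR

universe u

/-- a `WithBot ℕ∞` squeezed between `0` and a natural number is a natural number -/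
theorem exists_nat_eq {a : WithBot ℕ∞} (h0 : 0 ≤ a) {k : ℕ} (hk : a ≤ (k : WithBot ℕ∞)) :
    ∃ d : ℕ, a = (d : WithBot ℕ∞) ∧ d ≤ k := by
  have hbot : a ≠ ⊥ := by
    rintro rfl
    simp at h0
  obtain ⟨b, rfl⟩ := WithBot.ne_bot_iff_exists.mp hbot
  have hb : b ≤ (k : ℕ∞) := by exact_mod_cast hk
  have htop : b ≠ ⊤ := ne_top_of_le_ne_top (ENat.coe_ne_top k) hb
  obtain ⟨d, rfl⟩ := ENat.ne_top_iff_exists.mp htop
  exact ⟨d, rfl, by exact_mod_cast hb⟩

section quotient

variable (R : Type u) [CommRing R] [IsLocalRing R] [IsNoetherianRing R]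

theorem isLocalRing_quotient (I : Ideal R) (hI : I ≠ ⊤) : IsLocalRing (R ⧸ I) := by
  haveI : Nontrivial (R ⧸ I) := Ideal.Quotient.nontrivial_iff.mpr hI
  exact IsLocalRing.of_surjective' (Ideal.Quotient.mk I) Ideal.Quotient.mk_surjective

/-- the dimension of a Noetherian local ring as a natural number -/
theorem exists_ringKrullDim_eq : ∃ d : ℕ, ringKrullDim R = (d : WithBot ℕ∞) ∧
    d ≤ (maximalIdeal R).spanFinrank :=
  exists_nat_eq ringKrullDim_nonneg_of_nontrivial (ringKrullDim_le_spanFinrank_maximalIdeal R)

end quotient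

section regular

variable (R : Type u) [CommRing R] [IsRegularLocalRing R]

theorem ringKrullDim_eq_spanFinrank :
    ringKrullDim R = ((maximalIdeal R).spanFinrank : WithBot ℕ∞) :=
  (IsRegularLocalRing.spanFinrank_maximalIdeal (R := R)).symm

/-- Quotient of a regular local ring by an element that belongs to a generating set of the maximal
ideal of minimal size is regular of dimension one less. -/
theorem quotient_regular (x : R) (t : Finset R)
    (hspan : Ideal.span (insert x (t : Set R)) = maximalIdeal R)
    (hcard : t.card + 1 ≤ (maximalIdeal R).spanFinrank) :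
    IsRegularLocalRing (R ⧸ Ideal.span {x}) ∧
      ringKrullDim (R ⧸ Ideal.span {x}) + 1 = ringKrullDim R ∧
      t.card + 1 = (maximalIdeal R).spanFinrank := by
  classical
  have hxm : x ∈ maximalIdeal R := by
    rw [← hspan]
    exact Ideal.subset_span (Set.mem_insert x _)
  have hne : Ideal.span {x} ≠ ⊤ := by
    intro h
    have h1 : (1 : R) ∈ maximalIdeal R := by
      have : Ideal.span {x} ≤ maximalIdeal R := (Ideal.span_singleton_le_iff_mem _).mpr hxm
      exact this (h ▸ Submodule.mem_top)
    exact (maximalIdeal.isMaximal R).ne_top ((Ideal.eq_top_iff_one _).mpr h1)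
  haveI : IsLocalRing (R ⧸ Ideal.span {x}) := isLocalRing_quotient R _ hne
  -- generators of the maximal ideal of the quotient
  have hm' : maximalIdeal (R ⧸ Ideal.span {x}) =
      Ideal.span ((Ideal.Quotient.mk (Ideal.span {x})) '' (t : Set R)) := by
    rw [← map_maximalIdeal_of_surjective (Ideal.Quotient.mk (Ideal.span {x}))
      Ideal.Quotient.mk_surjective, ← hspan, Ideal.map_span, Set.image_insert_eq]
    have h0 : (Ideal.Quotient.mk (Ideal.span {x})) x = 0 :=
      Ideal.Quotient.eq_zero_iff_mem.mpr (Ideal.mem_span_singleton_self x)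
    rw [h0, Ideal.span_insert_zero]
  have hsf' : (maximalIdeal (R ⧸ Ideal.span {x})).spanFinrank ≤ t.card := by
    rw [hm']
    refine (Submodule.spanFinrank_span_le_ncard_of_finite (t.finite_toSet.image _)).trans ?_
    refine (Set.ncard_image_le t.finite_toSet).trans ?_
    rw [Set.ncard_coe_finset]
  obtain ⟨d', hd', hd'le⟩ := exists_ringKrullDim_eq (R ⧸ Ideal.span {x})
  have hdim : ringKrullDim R ≤ ringKrullDim (R ⧸ Ideal.span {x}) +
      ((Ideal.span {x} : Ideal R).spanFinrank : WithBot ℕ∞) := by
    apply ringKrullDim_le_ringKrullDim_quotient_add_spanFinrank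
    rw [IsLocalRing.ringJacobson_eq_maximalIdeal]
    exact (Ideal.span_singleton_le_iff_mem _).mpr hxm
  have hx1 : (Ideal.span {x} : Ideal R).spanFinrank ≤ 1 := by
    refine (Submodule.spanFinrank_span_le_ncard_of_finite (Set.finite_singleton x)).trans ?_
    rw [Set.ncard_singleton]
  rw [ringKrullDim_eq_spanFinrank R, hd'] at hdim
  have hdim' : (maximalIdeal R).spanFinrank ≤ d' + (Ideal.span {x} : Ideal R).spanFinrank := by
    exact_mod_cast hdim
  have e1 : d' = t.card := by omega
  have e2 : t.card + 1 = (maximalIdeal R).spanFinrank := by omega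
  have e3 : (maximalIdeal (R ⧸ Ideal.span {x})).spanFinrank = d' := by omega
  refine ⟨?_, ?_, e2⟩
  · apply IsRegularLocalRing.of_spanFinrank_maximalIdeal_le
    rw [hd', e3]
  · rw [hd', ringKrullDim_eq_spanFinrank R, ← e2, e1]
    norm_cast

end regular

section domain

theorem isDomain_aux : ∀ (n : ℕ) (R : Type u) [CommRing R] [IsRegularLocalRing R],
    (maximalIdeal R).spanFinrank = n → IsDomain R := by
  intro n
  induction n with
  | zero =>
    intro R _ _ h
    have hm : maximalIdeal R = ⊥ :=
      (Submodule.spanFinrank_eq_zero_iff_eq_bot (maximalIdeal R).fg_of_isNoetherianRing).mp h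
    exact (IsLocalRing.isField_iff_maximalIdeal_eq.mpr hm).isDomain
  | succ n ih =>
    intro R _ _ h
    classical
    obtain ⟨s, hscard, hsspan⟩ := Submodule.FG.exists_span_finset_card_eq_spanFinrank
      (p := maximalIdeal R) (maximalIdeal R).fg_of_isNoetherianRing
    have hsne : s.Nonempty := by
      rw [← Finset.card_pos, hscard, h]
      omega
    obtain ⟨x₁, hx₁⟩ := hsne
    have htcard : (s.erase x₁).card = n := by
      rw [Finset.card_erase_of_mem hx₁, hscard, h]
      rfl
    have hins : insert x₁ ((s.erase x₁ : Finset R) : Set R) = (s : Set R) := by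
      rw [← Finset.coe_insert, Finset.insert_erase hx₁]
    have hmJ : maximalIdeal R = Ideal.span {x₁} ⊔ Ideal.span ((s.erase x₁ : Finset R) : Set R) := by
      rw [← Ideal.span_union, Set.singleton_union, hins]
      exact hsspan.symm
    have hfin := minimalPrimes.finite_of_isNoetherianRing R
    have hdimR : ringKrullDim R = ((n + 1 : ℕ) : WithBot ℕ∞) := by
      rw [ringKrullDim_eq_spanFinrank R, h]
    have havoid : ∀ P ∈ hfin.toFinset,
        ¬ (x₁ ∈ P ∧ Ideal.span ((s.erase x₁ : Finset R) : Set R) ≤ P) := by
      rintro P hP ⟨h1, h2⟩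
      have hPmin : P ∈ minimalPrimes R := hfin.mem_toFinset.mp hP
      have hle : maximalIdeal R ≤ P := by
        rw [hmJ]
        exact sup_le ((Ideal.span_singleton_le_iff_mem _).mpr h1) h2
      haveI := hPmin.1.1
      have hPeq : P = maximalIdeal R :=
        ((maximalIdeal.isMaximal R).eq_of_le hPmin.1.1.ne_top hle).symm
      have hht : (maximalIdeal R).height = 0 := by
        rw [Ideal.height_eq_zero_iff, ← hPeq]
        exact hPmin
      have hd0 : ringKrullDim R = 0 := by
        rw [← IsLocalRing.maximalIdeal_height_eq_ringKrullDim, hht]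
        rfl
      rw [hdimR] at hd0
      have : ((n + 1 : ℕ) : WithBot ℕ∞) ≠ 0 := by
        norm_cast
      exact this hd0
    obtain ⟨j, hjJ, hj⟩ := Groth.Agent.H78.coset_prime_avoidance hfin.toFinset
      (fun P hP => (hfin.mem_toFinset.mp hP).1.1) x₁
      (Ideal.span ((s.erase x₁ : Finset R) : Set R)) havoid
    have hspan : Ideal.span (insert (x₁ + j) ((s.erase x₁ : Finset R) : Set R)) =
        maximalIdeal R := by
      rw [hmJ, Ideal.span_insert]
      apply le_antisymm
      · apply sup_le
        · rw [Ideal.span_singleton_le_iff_mem]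
          exact Ideal.add_mem _ (Ideal.mem_sup_left (Ideal.mem_span_singleton_self x₁))
            (Ideal.mem_sup_right hjJ)
        · exact le_sup_right
      · apply sup_le
        · rw [Ideal.span_singleton_le_iff_mem]
          have hsub : (x₁ + j) - j ∈ Ideal.span {x₁ + j} ⊔
              Ideal.span ((s.erase x₁ : Finset R) : Set R) :=
            Ideal.sub_mem _ (Ideal.mem_sup_left (Ideal.mem_span_singleton_self _))
              (Ideal.mem_sup_right hjJ)
          rwa [add_sub_cancel_right] at hsub
        · exact le_sup_right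
    obtain ⟨hreg, hdim, -⟩ := quotient_regular R (x₁ + j) (s.erase x₁) hspan (by rw [htcard, h])
    have hsf' : (maximalIdeal (R ⧸ Ideal.span {x₁ + j})).spanFinrank = n := by
      have h1 := ringKrullDim_eq_spanFinrank (R ⧸ Ideal.span {x₁ + j})
      rw [h1, hdimR] at hdim
      have : (maximalIdeal (R ⧸ Ideal.span {x₁ + j})).spanFinrank + 1 = n + 1 := by
        exact_mod_cast hdim
      omega
    haveI : IsDomain (R ⧸ Ideal.span {x₁ + j}) := ih (R ⧸ Ideal.span {x₁ + j}) hsf'
    have hprime : (Ideal.span {x₁ + j}).IsPrime := (Ideal.Quotient.isDomain_iff_prime _).mp inferInstance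
    obtain ⟨P, hP, hPx⟩ := Ideal.exists_minimalPrimes_le (bot_le : ⊥ ≤ Ideal.span {x₁ + j})
    have hxP : x₁ + j ∉ P := hj P (hfin.mem_toFinset.mpr hP)
    haveI := hP.1.1
    have hPP : P ≤ Ideal.span {x₁ + j} • P := by
      intro y hy
      obtain ⟨a, rfl⟩ := Ideal.mem_span_singleton'.mp (hPx hy)
      have haP : a ∈ P := (hP.1.1.mem_or_mem hy).resolve_right hxP
      rw [mul_comm]
      exact Submodule.smul_mem_smul (Ideal.mem_span_singleton_self _) haP
    have hxm : x₁ + j ∈ maximalIdeal R := by
      rw [← hspan]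
      exact Ideal.subset_span (Set.mem_insert _ _)
    have hP0 : P = ⊥ := by
      apply Submodule.eq_bot_of_le_smul_of_le_jacobson_bot (Ideal.span {x₁ + j}) P
        P.fg_of_isNoetherianRing hPP
      rw [IsLocalRing.jacobson_eq_maximalIdeal ⊥ bot_ne_top, Ideal.span_singleton_le_iff_mem]
      exact hxm
    haveI : (⊥ : Ideal R).IsPrime := hP0 ▸ hP.1.1
    exact IsDomain.of_bot_isPrime R

/-- **Regular local rings are domains.** -/
theorem isDomain (R : Type u) [CommRing R] [IsRegularLocalRing R] : IsDomain R :=
  isDomain_aux _ R rfl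

end domain

end Groth.Agent.Lead.RLR
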