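import Mathlib
import Groth.Agent.Lead.RegularLocal

/-!
Lead library: regular local rings, part 2: lifting regularity along a nonzerodivisor; regular
systems of parameters are regular sequences.
-/

set_option autoImplicit false

open IsLocalRing

namespace Groth.Agent.Lead.RLR

universe u

section lift

variable (R : Type u) [CommRing R] [IsLocalRing R] [IsNoetherianRing R]

/-- generators of the maximal ideal of `R ⧸ I` lift, together with generators of `I`, to generators
of the maximal ideal of `R`: `spanFinrank m ≤ spanFinrank m' + spanFinrank I`. -/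
theorem spanFinrank_maximalIdeal_le_quotient_add (x : R) (hx : x ∈ maximalIdeal R)
    [IsLocalRing (R ⧸ Ideal.span {x})] :
    (maximalIdeal R).spanFinrank ≤ (maximalIdeal (R ⧸ Ideal.span {x})).spanFinrank + 1 := by
  classical
  obtain ⟨s', hs'card, hs'span⟩ := Submodule.FG.exists_span_finset_card_eq_spanFinrank
    (p := maximalIdeal (R ⧸ Ideal.span {x})) (maximalIdeal _).fg_of_isNoetherianRing
  have hsurj : Function.Surjective (Ideal.Quotient.mk (Ideal.span {x})) :=
    Ideal.Quotient.mk_surjective
  let s : Finset R := s'.image (Function.surjInv hsurj)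
  have hs : (Ideal.Quotient.mk (Ideal.span {x})) '' (s : Set R) = (s' : Set _) := by
    rw [Finset.coe_image, ← Set.image_comp]
    have : (Ideal.Quotient.mk (Ideal.span {x})) ∘ Function.surjInv hsurj = id :=
      funext (Function.surjInv_eq hsurj)
    rw [this, Set.image_id]
  have hmap : (maximalIdeal R).map (Ideal.Quotient.mk (Ideal.span {x})) =
      maximalIdeal (R ⧸ Ideal.span {x}) :=
    map_maximalIdeal_of_surjective _ hsurj
  have hle : maximalIdeal R ≤ Ideal.span (insert x (s : Set R)) := by
    intro y hy
    have hy' : Ideal.Quotient.mk (Ideal.span {x}) y ∈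
        (Ideal.span (s : Set R)).map (Ideal.Quotient.mk (Ideal.span {x})) := by
      rw [Ideal.map_span, hs]
      change _ ∈ Ideal.span (s' : Set (R ⧸ Ideal.span {x}))
      have e : Ideal.span (s' : Set (R ⧸ Ideal.span {x})) = maximalIdeal (R ⧸ Ideal.span {x}) :=
        hs'span
      rw [e, ← hmap]
      exact Ideal.mem_map_of_mem _ hy
    rw [Ideal.mem_map_iff_of_surjective _ hsurj] at hy'
    obtain ⟨z, hz, hzy⟩ := hy'
    have hyz : y - z ∈ Ideal.span {x} := by
      rw [← Ideal.Quotient.eq_zero_iff_mem, map_sub, hzy, sub_self]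
    rw [Ideal.span_insert]
    have : y = (y - z) + z := by ring
    rw [this]
    exact Ideal.add_mem _ (Ideal.mem_sup_left hyz) (Ideal.mem_sup_right hz)
  have hge : Ideal.span (insert x (s : Set R)) ≤ maximalIdeal R := by
    rw [Ideal.span_le]
    intro y hy
    rcases Set.mem_insert_iff.mp hy with rfl | hy
    · exact hx
    · haveI : IsLocalHom (Ideal.Quotient.mk (Ideal.span {x})) :=
        IsLocalHom.of_surjective _ hsurj
      have h1 : Ideal.Quotient.mk (Ideal.span {x}) y ∈ maximalIdeal (R ⧸ Ideal.span {x}) := by
        have e : Ideal.span (s' : Set (R ⧸ Ideal.span {x})) = maximalIdeal (R ⧸ Ideal.span {x}) :=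
          hs'span
        rw [← e, ← hs]
        exact Ideal.subset_span (Set.mem_image_of_mem _ hy)
      have h2 := (maximalIdeal_comap (Ideal.Quotient.mk (Ideal.span {x}))) ▸
        (Ideal.mem_comap.mpr h1)
      exact h2
  have heq : maximalIdeal R = Ideal.span (insert x (s : Set R)) := le_antisymm hle hge
  rw [heq]
  have hfin : (insert x (s : Set R)).Finite := (s.finite_toSet).insert x
  refine (Submodule.spanFinrank_span_le_ncard_of_finite hfin).trans ?_
  refine (Set.ncard_insert_le x (s : Set R)).trans ?_
  rw [Set.ncard_coe_finset, ← hs'card]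
  exact Nat.succ_le_succ Finset.card_image_le

/-- Regularity lifts along a nonzerodivisor of the maximal ideal (S0560). -/
theorem of_quotient_regular (x : R) (hx : x ∈ maximalIdeal R) (hreg : x ∈ nonZeroDivisors R)
    [IsRegularLocalRing (R ⧸ Ideal.span ({x} : Set R))] : IsRegularLocalRing R := by
  apply IsRegularLocalRing.of_spanFinrank_maximalIdeal_le
  have h1 := ringKrullDim_quotient_span_singleton_succ_eq_ringKrullDim_of_mem_nonZeroDivisors hreg hx
  rw [← h1, ringKrullDim_eq_spanFinrank (R ⧸ Ideal.span {x})]
  have h2 := spanFinrank_maximalIdeal_le_quotient_add R x hx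
  exact_mod_cast h2

/-- generators of the maximal ideal of `R ⧸ (x)` -/
theorem maximalIdeal_quotient_eq_span (x : R) (s : Set R)
    (hspan : Ideal.span (insert x s) = maximalIdeal R) [IsLocalRing (R ⧸ Ideal.span {x})] :
    maximalIdeal (R ⧸ Ideal.span {x}) =
      Ideal.span ((Ideal.Quotient.mk (Ideal.span {x})) '' s) := by
  rw [← map_maximalIdeal_of_surjective (Ideal.Quotient.mk (Ideal.span {x}))
    Ideal.Quotient.mk_surjective, ← hspan, Ideal.map_span, Set.image_insert_eq]
  have h0 : (Ideal.Quotient.mk (Ideal.span {x})) x = 0 :=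
    Ideal.Quotient.eq_zero_iff_mem.mpr (Ideal.mem_span_singleton_self x)
  rw [h0, Ideal.span_insert_zero]

end lift

section regseq

open RingTheory.Sequence Pointwise

/-- the additive equivalence `R ⧸ a • ⊤ ≃+ R ⧸ (a)` -/
noncomputable def quotSMulTopAddEquiv (R : Type u) [CommRing R] (a : R) :
    QuotSMulTop a R ≃+ (R ⧸ Ideal.span {a}) :=
  (Submodule.quotEquivOfEq (a • (⊤ : Submodule R R)) (Ideal.span {a})
    (by simp [← Submodule.ideal_span_singleton_smul])).toAddEquiv

theorem quotSMulTopAddEquiv_mk (R : Type u) [CommRing R] (a y : R) :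
    quotSMulTopAddEquiv R a (Submodule.Quotient.mk y) = Ideal.Quotient.mk (Ideal.span {a}) y :=
  rfl

theorem isRegular_cons_iff_quotient (R : Type u) [CommRing R] (a : R) (rs : List R) :
    IsRegular R (a :: rs) ↔ IsSMulRegular R a ∧
      IsRegular (R ⧸ Ideal.span {a}) (rs.map (Ideal.Quotient.mk (Ideal.span {a}))) := by
  rw [isRegular_cons_iff]
  apply and_congr_right'
  apply AddEquiv.isRegular_congr (e := quotSMulTopAddEquiv R a)
  rw [List.forall₂_map_right_iff, List.forall₂_same]
  intro r _ y
  obtain ⟨y, rfl⟩ := Submodule.Quotient.mk_surjective _ y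
  rw [← Submodule.Quotient.mk_smul, quotSMulTopAddEquiv_mk, quotSMulTopAddEquiv_mk, smul_eq_mul,
    smul_eq_mul, map_mul]

theorem isRegular_ofFn_aux : ∀ (d : ℕ) (R : Type u) [CommRing R] [IsRegularLocalRing R],
    ringKrullDim R = (d : WithBot ℕ∞) → ∀ x : Fin d → R,
      Ideal.span (Set.range x) = maximalIdeal R → IsRegular R (List.ofFn x) := by
  intro d
  induction d with
  | zero =>
    intro R _ _ _ x _
    rw [List.ofFn_zero]
    exact IsRegular.nil R R
  | succ d ih =>
    intro R _ _ hd x hx
    classical
    have hsf : (maximalIdeal R).spanFinrank = d + 1 := by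
      have h := ringKrullDim_eq_spanFinrank R
      rw [hd] at h
      exact_mod_cast h.symm
    have hrange : Set.range x = insert (x 0) (Set.range fun i : Fin d => x i.succ) := by
      ext y
      constructor
      · rintro ⟨i, rfl⟩
        refine Fin.cases ?_ (fun i => ?_) i
        · exact Set.mem_insert _ _
        · exact Set.mem_insert_of_mem _ ⟨i, rfl⟩
      · rintro (rfl | ⟨i, rfl⟩)
        · exact ⟨0, rfl⟩
        · exact ⟨i.succ, rfl⟩
    let t : Finset R := Finset.univ.image (fun i : Fin d => x i.succ)
    have htcoe : (t : Set R) = Set.range fun i : Fin d => x i.succ := by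
      simp [t]
    have htcard : t.card ≤ d := by
      refine Finset.card_image_le.trans ?_
      simp
    have hspan : Ideal.span (insert (x 0) (t : Set R)) = maximalIdeal R := by
      rw [htcoe, ← hrange, hx]
    obtain ⟨hreg, hdim, hcard⟩ := quotient_regular R (x 0) t hspan (by rw [hsf]; omega)
    have hd' : ringKrullDim (R ⧸ Ideal.span {x 0}) = (d : WithBot ℕ∞) := by
      obtain ⟨d', hd'eq, -⟩ := exists_ringKrullDim_eq (R ⧸ Ideal.span {x 0})
      rw [hd'eq, hd] at hdim
      have : d' + 1 = d + 1 := by exact_mod_cast hdim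
      rw [hd'eq]
      have : d' = d := by omega
      rw [this]
    have hx0 : x 0 ≠ 0 := by
      intro h0
      have hm : maximalIdeal R = Ideal.span (t : Set R) := by
        rw [← hspan, h0, Ideal.span_insert_zero]
      have hle : (maximalIdeal R).spanFinrank ≤ t.card := by
        rw [hm]
        refine (Submodule.spanFinrank_span_le_ncard_of_finite t.finite_toSet).trans ?_
        rw [Set.ncard_coe_finset]
      omega
    haveI : IsDomain R := isDomain R
    have hsm : IsSMulRegular R (x 0) := mul_right_injective₀ hx0
    rw [List.ofFn_succ, isRegular_cons_iff_quotient]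
    refine ⟨hsm, ?_⟩
    rw [List.map_ofFn]
    apply ih (R ⧸ Ideal.span {x 0}) hd'
    rw [maximalIdeal_quotient_eq_span R (x 0) (t : Set R) hspan, htcoe, ← Set.range_comp]

/-- In a regular local ring of dimension `d`, any `d` generators of the maximal ideal form a regular
sequence (S0559). -/
theorem isRegular_ofFn (R : Type u) [CommRing R] [IsRegularLocalRing R] (d : ℕ)
    (hd : ringKrullDim R = d) (x : Fin d → R)
    (hx : Ideal.span (Set.range x) = maximalIdeal R) : IsRegular R (List.ofFn x) :=
  isRegular_ofFn_aux d R hd x hx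

end regseq

end Groth.Agent.Lead.RLR
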