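import Mathlib
import Groth.Agent.Lead.RegularLocal2

/-!
Lead library: regular local rings, part 3: an element of `m ∖ m²` is part of a minimal generating
set; regular quotients of regular local rings are cut out by part of a regular system of parameters.
-/

set_option autoImplicit false

open IsLocalRing

namespace Groth.Agent.Lead.RLR

universe u

/-- a nonzero vector belongs to a finite spanning set of cardinality the dimension -/
theorem exists_basis_set_mem {K V : Type*} [Field K] [AddCommGroup V] [Module K V]
    [FiniteDimensional K V] (v : V) (hv : v ≠ 0) :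
    ∃ b : Set V, b.Finite ∧ v ∈ b ∧ b.ncard = Module.finrank K V ∧ Submodule.span K b = ⊤ := by
  have hs : LinearIndepOn K id ({v} : Set V) :=
    LinearIndepOn.singleton (v := id) (by simpa using hv)
  haveI : Finite ↥(hs.extend (Set.subset_univ _)) :=
    Module.Finite.finite_basis (Module.Basis.extend hs)
  refine ⟨hs.extend (Set.subset_univ _), Set.toFinite _,
    Module.Basis.subset_extend hs (Set.mem_singleton v), ?_, ?_⟩
  · rw [Module.finrank_eq_nat_card_basis (Module.Basis.extend hs), Nat.card_coe_set_eq]
  · have h1 := (Module.Basis.extend hs).span_eq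
    rw [Module.Basis.range_extend hs] at h1
    exact h1

section cotangent

variable (R : Type u) [CommRing R] [IsLocalRing R] [IsNoetherianRing R]

/-- an element of `m ∖ m²` belongs to a generating set of `m` of minimal size -/
theorem exists_finset_span_insert (a : R) (ha : a ∈ maximalIdeal R)
    (ha2 : a ∉ maximalIdeal R ^ 2) :
    ∃ t : Finset R, t.card + 1 = (maximalIdeal R).spanFinrank ∧
      Ideal.span (insert a (t : Set R)) = maximalIdeal R := by
  classical
  set v : CotangentSpace R := (maximalIdeal R).toCotangent ⟨a, ha⟩ with hvdef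
  have hv : v ≠ 0 := by
    rw [Ne, hvdef, Ideal.toCotangent_eq_zero]
    exact ha2
  obtain ⟨b, hbfin, hvb, hbcard, hspanb⟩ := exists_basis_set_mem (K := ResidueField R) v hv
  have hn : (maximalIdeal R).spanFinrank = b.ncard := by
    rw [IsLocalRing.spanFinrank_maximalIdeal_eq_finrank_cotangentSpace, hbcard]
  let g : CotangentSpace R → ↥(maximalIdeal R) :=
    Function.surjInv (maximalIdeal R).toCotangent_surjective
  have hg : ∀ w, (maximalIdeal R).toCotangent (g w) = w :=
    Function.surjInv_eq (maximalIdeal R).toCotangent_surjective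
  let s' : Set ↥(maximalIdeal R) := g '' (b \ {v})
  have hs'fin : s'.Finite := (hbfin.sdiff).image g
  have himg : (maximalIdeal R).toCotangent '' (insert ⟨a, ha⟩ s') = b := by
    rw [Set.image_insert_eq, ← Set.image_comp]
    have : (⇑(maximalIdeal R).toCotangent ∘ g) = id := funext hg
    rw [this, Set.image_id, ← hvdef, Set.insert_sdiff_singleton, Set.insert_eq_of_mem hvb]
  have hspanS : Submodule.span R (insert (⟨a, ha⟩ : ↥(maximalIdeal R)) s') = ⊤ := by
    rw [← IsLocalRing.CotangentSpace.span_image_eq_top_iff, himg]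
    exact hspanb
  let t : Finset R := (hs'fin.image Subtype.val).toFinset
  have htcoe : (t : Set R) = Subtype.val '' s' := by simp [t]
  have hspan : Ideal.span (insert a (t : Set R)) = maximalIdeal R := by
    have h1 : Submodule.map (maximalIdeal R).subtype
        (Submodule.span R (insert (⟨a, ha⟩ : ↥(maximalIdeal R)) s')) = maximalIdeal R := by
      rw [hspanS, Submodule.map_top, Submodule.range_subtype]
    rw [Submodule.map_span, Set.image_insert_eq] at h1
    rw [htcoe]
    exact h1
  have hcard1 : t.card ≤ b.ncard - 1 := by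
    have h1 : t.card = (Subtype.val '' s').ncard := by
      rw [← htcoe, Set.ncard_coe_finset]
    rw [h1]
    refine (Set.ncard_image_le hs'fin).trans ?_
    refine (Set.ncard_image_le hbfin.sdiff).trans ?_
    rw [Set.ncard_sdiff_singleton_of_mem hvb]
  have hbpos : 0 < b.ncard := (Set.ncard_pos hbfin).mpr ⟨v, hvb⟩
  have hcard2 : (maximalIdeal R).spanFinrank ≤ t.card + 1 := by
    conv_lhs => rw [← hspan]
    have hfin : (insert a (t : Set R)).Finite := t.finite_toSet.insert a
    refine (Submodule.spanFinrank_span_le_ncard_of_finite hfin).trans ?_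
    refine (Set.ncard_insert_le a (t : Set R)).trans ?_
    rw [Set.ncard_coe_finset]
  refine ⟨t, ?_, hspan⟩
  omega

/-- lifting generators of the maximal ideal of a quotient -/
theorem maximalIdeal_eq_span_sup (I : Ideal R) [IsLocalRing (R ⧸ I)] (s : Set R)
    (hs : Ideal.span ((Ideal.Quotient.mk I) '' s) = maximalIdeal (R ⧸ I)) :
    maximalIdeal R = Ideal.span s ⊔ I := by
  have hsurj : Function.Surjective (Ideal.Quotient.mk I) := Ideal.Quotient.mk_surjective
  haveI : IsLocalHom (Ideal.Quotient.mk I) := IsLocalHom.of_surjective _ hsurj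
  have h1 := Ideal.comap_map_of_surjective (Ideal.Quotient.mk I) hsurj (Ideal.span s)
  rw [Ideal.map_span, hs, maximalIdeal_comap, ← RingHom.ker_eq_comap_bot, Ideal.mk_ker] at h1
  exact h1

/-- a finite set as the range of a function on `Fin` -/
theorem exists_fin_range_eq {α : Type*} (s : Finset α) (n : ℕ) (h : s.card = n) :
    ∃ x : Fin n → α, Set.range x = (s : Set α) := by
  refine ⟨fun i => ((Finset.equivFinOfCardEq h).symm i : α), ?_⟩
  ext y
  constructor
  · rintro ⟨i, rfl⟩
    exact ((Finset.equivFinOfCardEq h).symm i).2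
  · intro hy
    exact ⟨Finset.equivFinOfCardEq h ⟨y, hy⟩, by simp⟩

end cotangent

section quotreg

/-- in a Noetherian local domain, a prime with quotient of full (finite) dimension is zero -/
theorem eq_bot_of_ringKrullDim_quotient_eq (R : Type u) [CommRing R] [IsDomain R] (P : Ideal R)
    (d : ℕ) (hd : ringKrullDim R = (d : WithBot ℕ∞)) (hP : ringKrullDim (R ⧸ P) = (d : WithBot ℕ∞)) :
    P = ⊥ := by
  by_contra hne
  obtain ⟨r, hrP, hr0⟩ := Submodule.exists_mem_ne_zero_of_ne_bot hne
  have hr : r ∈ nonZeroDivisors R := mem_nonZeroDivisors_of_ne_zero hr0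
  have h1 := ringKrullDim_quotient_succ_le_of_nonZeroDivisor hr
  have hle : Ideal.span {r} ≤ P := (Ideal.span_singleton_le_iff_mem _).mpr hrP
  have h2 : ringKrullDim (R ⧸ P) ≤ ringKrullDim (R ⧸ Ideal.span {r}) :=
    ringKrullDim_le_of_surjective (Ideal.Quotient.factor hle) (Ideal.Quotient.factor_surjective hle)
  rw [hP] at h2
  rw [hd] at h1
  have h3 : ((d : WithBot ℕ∞) + 1) ≤ (d : WithBot ℕ∞) := (add_le_add h2 le_rfl).trans h1
  have h4 : ((d + 1 : ℕ) : WithBot ℕ∞) ≤ (d : WithBot ℕ∞) := by exact_mod_cast h3
  have h5 : d + 1 ≤ d := by exact_mod_cast h4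
  omega

end quotreg

end Groth.Agent.Lead.RLR
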