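import Mathlib
import Groth.Agent.Lead.RegularLocal3

/-!
Lead library: regular local rings, part 4: a regular quotient of a regular local ring is cut out
by part of a regular system of parameters.
-/

set_option autoImplicit false

open IsLocalRing

namespace Groth.Agent.Lead.RLR

universe u

theorem eq_span_sup_of_map_eq {R : Type*} [CommRing R] (J I : Ideal R) (hJI : J ≤ I) (s : Set R)
    (h : I.map (Ideal.Quotient.mk J) = Ideal.span ((Ideal.Quotient.mk J) '' s)) :
    I = Ideal.span s ⊔ J := by
  have hsurj : Function.Surjective (Ideal.Quotient.mk J) := Ideal.Quotient.mk_surjective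
  have h1 := Ideal.comap_map_of_surjective (Ideal.Quotient.mk J) hsurj (Ideal.span s)
  have h2 := Ideal.comap_map_of_surjective (Ideal.Quotient.mk J) hsurj I
  rw [← RingHom.ker_eq_comap_bot, Ideal.mk_ker] at h1 h2
  rw [Ideal.map_span, ← h, h2] at h1
  rw [← h1]
  exact (sup_eq_left.mpr hJI).symm

/-- an ideal contained in `m²` with regular quotient is zero -/
theorem eq_bot_of_le_sq (R : Type u) [CommRing R] [IsRegularLocalRing R] (I : Ideal R)
    [IsRegularLocalRing (R ⧸ I)] (hI2 : I ≤ maximalIdeal R ^ 2) : I = ⊥ := by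
  classical
  obtain ⟨d, hd, -⟩ := exists_ringKrullDim_eq R
  have hsf : (maximalIdeal R).spanFinrank = d := by
    have := ringKrullDim_eq_spanFinrank R
    rw [hd] at this
    exact_mod_cast this.symm
  obtain ⟨e, he, -⟩ := exists_ringKrullDim_eq (R ⧸ I)
  have hsfe : (maximalIdeal (R ⧸ I)).spanFinrank = e := by
    have := ringKrullDim_eq_spanFinrank (R ⧸ I)
    rw [he] at this
    exact_mod_cast this.symm
  have hfg : (maximalIdeal (R ⧸ I)).FG := IsNoetherian.noetherian _
  set s' := (maximalIdeal (R ⧸ I)).generators with hs'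
  have hs'fin : s'.Finite := Submodule.FG.finite_generators hfg
  have hs'card : s'.ncard = e := by rw [hs', Submodule.FG.generators_ncard hfg, hsfe]
  have hs'span : Ideal.span s' = maximalIdeal (R ⧸ I) := Submodule.span_generators _
  have hsurj : Function.Surjective (Ideal.Quotient.mk I) := Ideal.Quotient.mk_surjective
  set g := Function.surjInv hsurj with hg
  have hgs : ∀ y, Ideal.Quotient.mk I (g y) = y := Function.surjInv_eq hsurj
  set s := g '' s' with hs
  have himg : (Ideal.Quotient.mk I) '' s = s' := by
    rw [hs, ← Set.image_comp]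
    have : (⇑(Ideal.Quotient.mk I) ∘ g) = id := funext hgs
    rw [this, Set.image_id]
  have hm : maximalIdeal R = Ideal.span s ⊔ I := by
    apply maximalIdeal_eq_span_sup R I s
    rw [himg, hs'span]
  have hle : maximalIdeal R ≤ Ideal.span s := by
    apply Submodule.le_of_le_smul_of_le_jacobson_bot (I := maximalIdeal R)
      (IsNoetherian.noetherian _)
    · rw [IsLocalRing.jacobson_eq_maximalIdeal ⊥ bot_ne_top]
    · rw [smul_eq_mul, ← pow_two]
      conv_lhs => rw [hm]
      exact sup_le_sup_left hI2 _
  have hmeq : maximalIdeal R = Ideal.span s := le_antisymm hle (hm ▸ le_sup_left)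
  have hde : d ≤ e := by
    rw [← hsf, ← hs'card]
    conv_lhs => rw [hmeq]
    refine (Submodule.spanFinrank_span_le_ncard_of_finite (hs'fin.image g)).trans ?_
    exact Set.ncard_image_le hs'fin
  have hed : e ≤ d := by
    have h1 : ringKrullDim (R ⧸ I) ≤ ringKrullDim R :=
      ringKrullDim_le_of_surjective (Ideal.Quotient.mk I) hsurj
    rw [hd, he] at h1
    exact_mod_cast h1
  have hed' : e = d := le_antisymm hed hde
  haveI : IsDomain R := isDomain R
  exact eq_bot_of_ringKrullDim_quotient_eq R I d hd (hed' ▸ he)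

theorem exists_generators_aux : ∀ (d : ℕ) (R : Type u) [CommRing R] [IsRegularLocalRing R],
    ringKrullDim R = (d : WithBot ℕ∞) → ∀ (I : Ideal R) [IsRegularLocalRing (R ⧸ I)],
    ∃ (x : Fin d → R) (c : ℕ) (hc : c ≤ d), Ideal.span (Set.range x) = maximalIdeal R ∧
      I = Ideal.span (Set.range (fun i : Fin c => x (Fin.castLE hc i))) := by
  intro d
  induction d using Nat.strong_induction_on with
  | _ d ih =>
  intro R _ _ hd I _
  classical
  have hsf : (maximalIdeal R).spanFinrank = d := by
    have := ringKrullDim_eq_spanFinrank R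
    rw [hd] at this
    exact_mod_cast this.symm
  have hIne : I ≠ ⊤ := by
    intro h
    have : Nontrivial (R ⧸ I) := inferInstance
    exact (Ideal.Quotient.nontrivial_iff.mp this) h
  have hIm : I ≤ maximalIdeal R := IsLocalRing.le_maximalIdeal hIne
  by_cases hI2 : I ≤ maximalIdeal R ^ 2
  · have hI0 : I = ⊥ := eq_bot_of_le_sq R I hI2
    have hfg : (maximalIdeal R).FG := IsNoetherian.noetherian _
    have hfin := Submodule.FG.finite_generators hfg
    have hcard : hfin.toFinset.card = d := by
      rw [← Set.ncard_eq_toFinset_card _ hfin, Submodule.FG.generators_ncard hfg, hsf]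
    obtain ⟨x, hx⟩ := exists_fin_range_eq hfin.toFinset d hcard
    refine ⟨x, 0, Nat.zero_le d, ?_, ?_⟩
    · rw [hx, Set.Finite.coe_toFinset]
      exact Submodule.span_generators _
    · rw [hI0, Set.range_eq_empty, Ideal.span_empty]
  · obtain ⟨a, haI, ha2⟩ := Set.not_subset.mp hI2
    have ham : a ∈ maximalIdeal R := hIm haI
    obtain ⟨t, htcard, htspan⟩ := exists_finset_span_insert R a ham ha2
    obtain ⟨hreg, hdim, -⟩ := quotient_regular R a t htspan (le_of_eq htcard)
    haveI := hreg
    obtain ⟨d₁, hd₁, -⟩ := exists_ringKrullDim_eq (R ⧸ Ideal.span {a})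
    have hdd : d₁ + 1 = d := by
      rw [hd₁, hd] at hdim
      exact_mod_cast hdim
    subst hdd
    have hle : Ideal.span {a} ≤ I := (Ideal.span_singleton_le_iff_mem _).mpr haI
    haveI : IsRegularLocalRing
        ((R ⧸ Ideal.span {a}) ⧸ I.map (Ideal.Quotient.mk (Ideal.span {a}))) :=
      IsRegularLocalRing.of_ringEquiv (DoubleQuot.quotQuotEquivQuotOfLE hle).symm
    obtain ⟨y, c₁, hc₁, hy1, hy2⟩ := ih d₁ (Nat.lt_succ_self d₁) (R ⧸ Ideal.span {a}) hd₁
      (I.map (Ideal.Quotient.mk (Ideal.span {a})))
    have hsurj : Function.Surjective (Ideal.Quotient.mk (Ideal.span {a})) :=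
      Ideal.Quotient.mk_surjective
    set y' : Fin d₁ → R := fun i => Function.surjInv hsurj (y i) with hy'
    have hy'y : ∀ i, Ideal.Quotient.mk (Ideal.span {a}) (y' i) = y i :=
      fun i => Function.surjInv_eq hsurj (y i)
    refine ⟨Fin.cons a y', c₁ + 1, Nat.succ_le_succ hc₁, ?_, ?_⟩
    · rw [Fin.range_cons, Ideal.span_insert, sup_comm]
      symm
      apply maximalIdeal_eq_span_sup R (Ideal.span {a}) (Set.range y')
      rw [← Set.range_comp, ← hy1]
      congr 2
      exact funext hy'y
    · have hfun : (fun i : Fin (c₁ + 1) =>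
          (Fin.cons a y' : Fin (d₁ + 1) → R) (Fin.castLE (Nat.succ_le_succ hc₁) i)) =
          Fin.cons a (fun i : Fin c₁ => y' (Fin.castLE hc₁ i)) := by
        funext i
        refine Fin.cases ?_ (fun j => ?_) i
        · simp
        · simp [Fin.castLE_succ]
      rw [hfun, Fin.range_cons, Ideal.span_insert, sup_comm]
      apply eq_span_sup_of_map_eq (Ideal.span {a}) I hle
      rw [hy2, ← Set.range_comp]
      congr 2
      funext i
      exact (hy'y _).symm

/-- A regular quotient of a regular local ring is cut out by part of a regular system of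
parameters. -/
theorem exists_generators (R : Type u) [CommRing R] [IsRegularLocalRing R] (d : ℕ)
    (hd : ringKrullDim R = d) (I : Ideal R) [IsRegularLocalRing (R ⧸ I)] :
    ∃ (x : Fin d → R) (c : ℕ) (hc : c ≤ d), Ideal.span (Set.range x) = maximalIdeal R ∧
      I = Ideal.span (Set.range (fun i : Fin c => x (Fin.castLE hc i))) :=
  exists_generators_aux d R hd I

end Groth.Agent.Lead.RLR
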