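import Mathlib
import Groth.Agent.Lead.RegularLocal4
import Groth.Agent.H29.GlDim

/-!
Lead library: regular local rings, part 5: a regular local ring of dimension `d` has global
dimension `≤ d` (Serre), using helper29's `pd k ≤ n ⇒ gl.dim ≤ n`.
-/

set_option autoImplicit false

open IsLocalRing CategoryTheory

namespace Groth.Agent.Lead.RLR

universe u

/-- a regular system of parameters exists -/
theorem exists_fin_span_eq (R : Type u) [CommRing R] [IsRegularLocalRing R] (d : ℕ)
    (hd : ringKrullDim R = d) :
    ∃ x : Fin d → R, Ideal.span (Set.range x) = maximalIdeal R := by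
  classical
  have hsf : (maximalIdeal R).spanFinrank = d := by
    have := ringKrullDim_eq_spanFinrank R
    rw [hd] at this
    exact_mod_cast this.symm
  have hfg : (maximalIdeal R).FG := IsNoetherian.noetherian _
  have hfin := Submodule.FG.finite_generators hfg
  have hcard : hfin.toFinset.card = d := by
    rw [← Set.ncard_eq_toFinset_card _ hfin, Submodule.FG.generators_ncard hfg, hsf]
  obtain ⟨x, hx⟩ := exists_fin_range_eq hfin.toFinset d hcard
  refine ⟨x, ?_⟩
  rw [hx, Set.Finite.coe_toFinset]
  exact Submodule.span_generators _

/-- the residue field of a regular local ring of dimension `d` has projective dimension `≤ d` -/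
theorem hasProjectiveDimensionLT_residueField (R : Type u) [CommRing R] [IsRegularLocalRing R]
    (d : ℕ) (hd : ringKrullDim R = d) :
    HasProjectiveDimensionLT (ModuleCat.of R (ResidueField R)) (d + 1) := by
  obtain ⟨x, hx⟩ := exists_fin_span_eq R d hd
  have hreg := isRegular_ofFn R d hd x hx
  have h1 := ModuleCat.projectiveDimension_quotient_eq_length.{u} (List.ofFn x) hreg
  have hof : Ideal.ofList (List.ofFn x) = maximalIdeal R := by
    rw [← hx]
    unfold Ideal.ofList
    congr 1
    ext y
    simp [List.mem_ofFn]
  let e : Shrink.{u} (R ⧸ Ideal.ofList (List.ofFn x)) ≃ₗ[R] ResidueField R :=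
    (Shrink.linearEquiv R _).trans (Submodule.quotEquivOfEq _ _ hof)
  rw [CategoryTheory.projectiveDimension_eq_of_iso e.toModuleIso, List.length_ofFn] at h1
  have h2 : projectiveDimension (ModuleCat.of R (ResidueField R)) ≤ (d : ℕ) := le_of_eq h1
  exact (projectiveDimension_le_iff _ _).mp h2

/-- Serre: a regular local ring of dimension `d` has global dimension `≤ d`. -/
theorem hasProjectiveDimensionLT (R : Type u) [CommRing R] [IsRegularLocalRing R]
    (d : ℕ) (hd : ringKrullDim R = d) (M : ModuleCat.{u} R) :
    HasProjectiveDimensionLT M (d + 1) :=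
  Groth.Agent.H29.GlDimL.hasProjectiveDimensionLT_of_residueField d
    (hasProjectiveDimensionLT_residueField R d hd) M

end Groth.Agent.Lead.RLR
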