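import Mathlib
import Groth.Agent.H29.GlDim

/-!
Lead library: change of rings for projective dimension: if `x` is regular on `R` and on a finite
`R`-module `M` of projective dimension `≤ n`, then `M/xM` has projective dimension `≤ n` over `R/x`.
-/

set_option autoImplicit false

open CategoryTheory

namespace Groth.Agent.Lead.PdQuot

universe u

variable {R : Type u} [CommRing R]

/-- the `R/x`-linear map `M/xM → M'/xM'` induced by an `R`-linear map -/
noncomputable def qmap (x : R) {M M' : Type u} [AddCommGroup M] [Module R M] [AddCommGroup M']
    [Module R M'] (f : M →ₗ[R] M') :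
    QuotSMulTop x M →ₗ[R ⧸ Ideal.span {x}] QuotSMulTop x M' :=
  (QuotSMulTop.map x f).extendScalarsOfSurjective Ideal.Quotient.mk_surjective

theorem qmap_apply (x : R) {M M' : Type u} [AddCommGroup M] [Module R M] [AddCommGroup M']
    [Module R M'] (f : M →ₗ[R] M') (y : QuotSMulTop x M) : qmap x f y = QuotSMulTop.map x f y := rfl

theorem qmap_injective (x : R) {K F M : Type u} [AddCommGroup K] [Module R K] [AddCommGroup F]
    [Module R F] [AddCommGroup M] [Module R M] (f : K →ₗ[R] F) (g : F →ₗ[R] M)
    (hf : Function.Injective f) (hfg : Function.Exact f g) (hreg : IsSMulRegular M x) :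
    Function.Injective (qmap x f) := by
  rw [← LinearMap.ker_eq_bot, LinearMap.ker_eq_bot']
  intro y hy
  obtain ⟨k, rfl⟩ := Submodule.Quotient.mk_surjective _ y
  rw [qmap_apply, QuotSMulTop.map_apply_mk, Submodule.Quotient.mk_eq_zero] at hy
  obtain ⟨z, -, hz⟩ := (Submodule.mem_smul_pointwise_iff_exists _ _ _).mp hy
  -- `f k = x • z`
  have h1 : x • g z = 0 := by
    rw [← map_smul, hz]
    exact hfg.apply_apply_eq_zero k
  have h2 : g z = 0 := hreg.right_eq_zero_of_smul h1
  obtain ⟨k', rfl⟩ := (hfg z).mp h2
  have h3 : k = x • k' := hf (by rw [map_smul, hz])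
  rw [Submodule.Quotient.mk_eq_zero, h3]
  exact Submodule.smul_mem_pointwise_smul _ _ _ Submodule.mem_top

theorem qmap_surjective (x : R) {F M : Type u} [AddCommGroup F]
    [Module R F] [AddCommGroup M] [Module R M] (g : F →ₗ[R] M) (hg : Function.Surjective g) :
    Function.Surjective (qmap x g) :=
  QuotSMulTop.map_surjective x hg

theorem qmap_exact (x : R) {K F M : Type u} [AddCommGroup K] [Module R K] [AddCommGroup F]
    [Module R F] [AddCommGroup M] [Module R M] (f : K →ₗ[R] F) (g : F →ₗ[R] M)
    (hg : Function.Surjective g) (hfg : Function.Exact f g) :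
    Function.Exact (qmap x f) (qmap x g) :=
  QuotSMulTop.map_exact x hfg hg

/-- `M/xM` is projective over `R/x` if `M` is projective over `R` -/
theorem projective_quotSMulTop (x : R) (M : Type u) [AddCommGroup M] [Module R M]
    [Module.Projective R M] : Module.Projective (R ⧸ Ideal.span {x}) (QuotSMulTop x M) :=
  Module.Projective.of_equiv ((QuotSMulTop.equivQuotTensor x M).extendScalarsOfSurjective
    Ideal.Quotient.mk_surjective).symm

theorem isSMulRegular_of_injective (x : R) {K F : Type u} [AddCommGroup K] [Module R K]
    [AddCommGroup F] [Module R F] (f : K →ₗ[R] F) (hf : Function.Injective f)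
    (h : IsSMulRegular F x) : IsSMulRegular K x :=
  h.of_injective f hf

/-- change of rings: projective dimension does not go up modulo an element regular on `R` and `M` -/
theorem hasProjectiveDimensionLT_quotSMulTop [IsNoetherianRing R] (x : R)
    (hx : IsSMulRegular R x) : ∀ (n : ℕ) (M : Type u) [AddCommGroup M] [Module R M]
    [Module.Finite R M], IsSMulRegular M x →
    HasProjectiveDimensionLT (ModuleCat.of R M) (n + 1) →
    HasProjectiveDimensionLT (ModuleCat.of (R ⧸ Ideal.span {x}) (QuotSMulTop x M)) (n + 1) := by
  intro n
  induction n with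
  | zero =>
    intro M _ _ _ _ h
    rw [zero_add, ← projective_iff_hasProjectiveDimensionLT_one] at h ⊢
    have : Module.Projective R M := (IsProjective.iff_projective M).mpr h
    have := projective_quotSMulTop x M
    exact (IsProjective.iff_projective _).mp this
  | succ n ih =>
    intro M _ _ _ hreg h
    obtain ⟨m, g, hg⟩ := Module.Finite.exists_fin' R M
    let K := LinearMap.ker g
    have hexact : Function.Exact K.subtype g := LinearMap.exact_subtype_ker_map g
    have hinj : Function.Injective K.subtype := Subtype.val_injective
    have hS := Groth.Agent.H29.GlDimL.shortExact_of_exact K.subtype g hinj hg hexact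
    have hproj : Projective (ModuleCat.of R (Fin m → R)) :=
      (IsProjective.iff_projective _).mp inferInstance
    have hK : HasProjectiveDimensionLT (ModuleCat.of R K) (n + 1) :=
      (hS.hasProjectiveDimensionLT_X₃_iff n hproj).mp h
    have hFreg : IsSMulRegular (Fin m → R) x := by
      intro a b hab
      funext i
      exact hx (congrFun hab i)
    have hKreg : IsSMulRegular K x := isSMulRegular_of_injective x K.subtype hinj hFreg
    have hK' := ih K hKreg hK
    have hS' := Groth.Agent.H29.GlDimL.shortExact_of_exact (qmap x K.subtype) (qmap x g)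
      (qmap_injective x K.subtype g hinj hexact hreg) (qmap_surjective x g hg)
      (qmap_exact x K.subtype g hg hexact)
    have hproj' : Projective (ModuleCat.of (R ⧸ Ideal.span {x}) (QuotSMulTop x (Fin m → R))) :=
      (IsProjective.iff_projective _).mp (projective_quotSMulTop x _)
    exact (hS'.hasProjectiveDimensionLT_X₃_iff n hproj').mpr hK'

end Groth.Agent.Lead.PdQuot
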