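import Mathlib
import Groth.Agent.Lead.PdQuot

/-!
Lead library: the depth zero case of Auslander–Buchsbaum: over a Noetherian local ring whose
maximal ideal annihilates a nonzero element, a finite module of finite projective dimension is free.
-/

set_option autoImplicit false

open CategoryTheory IsLocalRing TensorProduct

namespace Groth.Agent.Lead.PdQuot

universe u

variable {R : Type u} [CommRing R] [IsLocalRing R]

theorem mem_maximalIdeal_of_mul_eq_zero (a : R) (ha : a ≠ 0) (c : R) (hc : c * a = 0) :
    c ∈ maximalIdeal R := by
  by_contra h
  have hu : IsUnit c := IsLocalRing.notMem_maximalIdeal.mp h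
  exact ha (hu.mul_right_eq_zero.mp hc)

/-- a free submodule of a finite free module stays injective after tensoring with the residue
field, if the maximal ideal annihilates a nonzero element -/
theorem lTensor_subtype_injective (a : R) (ha : a ≠ 0)
    (ham : ∀ y ∈ maximalIdeal R, y * a = 0) {m : ℕ} (K : Submodule R (Fin m → R))
    [Module.Free R K] : Function.Injective (K.subtype.lTensor (ResidueField R)) := by
  rw [← LinearMap.ker_eq_bot, LinearMap.ker_eq_bot']
  intro z hz
  obtain ⟨v, rfl⟩ := TensorProduct.mk_surjective R K (ResidueField R) residue_surjective z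
  rw [TensorProduct.mk_apply, LinearMap.lTensor_tmul] at hz
  have hcoord : ∀ i, (v : Fin m → R) i ∈ maximalIdeal R := by
    intro i
    have h1 := congrArg (fun t => TensorProduct.rid R (ResidueField R)
      (LinearMap.lTensor (ResidueField R) (LinearMap.proj i : (Fin m → R) →ₗ[R] R) t)) hz
    simp only [LinearMap.lTensor_tmul, LinearMap.proj_apply, TensorProduct.rid_tmul, map_zero,
      Submodule.subtype_apply] at h1
    rw [Algebra.smul_def, mul_one] at h1
    exact (residue_eq_zero_iff _).mp h1
  have hav : a • v = 0 := by
    apply Subtype.ext
    funext i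
    change a * (v : Fin m → R) i = 0
    rw [mul_comm]
    exact ham _ (hcoord i)
  let b := Module.Free.chooseBasis R K
  have hrepr : ∀ j, b.repr v j ∈ maximalIdeal R := by
    intro j
    apply mem_maximalIdeal_of_mul_eq_zero a ha
    have h1 : b.repr (a • v) j = 0 := by rw [hav, map_zero]; rfl
    rw [map_smul, Finsupp.smul_apply, smul_eq_mul, mul_comm] at h1
    exact h1
  rw [TensorProduct.mk_apply, ← b.linearCombination_repr v, Finsupp.linearCombination_apply,
    Finsupp.sum, TensorProduct.tmul_sum]
  apply Finset.sum_eq_zero
  intro j _
  rw [TensorProduct.tmul_smul, TensorProduct.smul_tmul']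
  have h1 : (b.repr v j) • (1 : ResidueField R) = 0 := by
    rw [Algebra.smul_def, mul_one]
    exact (residue_eq_zero_iff _).mpr (hrepr j)
  rw [h1, TensorProduct.zero_tmul]

variable [IsNoetherianRing R]

/-- depth zero case of Auslander–Buchsbaum -/
theorem free_of_hasProjectiveDimensionLT_of_socle (a : R) (ha : a ≠ 0)
    (ham : ∀ y ∈ maximalIdeal R, y * a = 0) :
    ∀ (n : ℕ) (M : Type u) [AddCommGroup M] [Module R M] [Module.Finite R M],
      HasProjectiveDimensionLT (ModuleCat.of R M) (n + 1) → Module.Free R M := by
  intro n
  induction n with
  | zero =>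
    intro M _ _ _ h
    rw [zero_add, ← projective_iff_hasProjectiveDimensionLT_one] at h
    have : Module.Projective R M := (IsProjective.iff_projective M).mpr h
    exact Module.free_of_flat_of_isLocalRing
  | succ n ih =>
    intro M _ _ _ h
    obtain ⟨m, g, hg⟩ := Module.Finite.exists_fin' R M
    let K := LinearMap.ker g
    have hexact : Function.Exact K.subtype g := LinearMap.exact_subtype_ker_map g
    have hinj : Function.Injective K.subtype := Subtype.val_injective
    have hS := Groth.Agent.H29.GlDimL.shortExact_of_exact K.subtype g hinj hg hexact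
    have hproj : Projective (ModuleCat.of R (Fin m → R)) :=
      (IsProjective.iff_projective _).mp inferInstance
    have hK : HasProjectiveDimensionLT (ModuleCat.of R K) (n + 1) :=
      (hS.hasProjectiveDimensionLT_X₃_iff n hproj).mp h
    haveI : Module.Free R K := ih K hK
    exact Module.free_of_lTensor_residueField_injective K.subtype g hg hexact
      (lTensor_subtype_injective a ha ham K)

end Groth.Agent.Lead.PdQuot
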