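import Mathlib
import Groth.Agent.Lead.PdQuot

/-!
Lead library: for `x ∈ m ∖ m²` in a local ring `R`, the residue field of `R/x` is a direct summand
of `m/xm` as an `R/x`-module.
-/

set_option autoImplicit false

open CategoryTheory IsLocalRing
open scoped Pointwise

namespace Groth.Agent.Lead.PdQuot

universe u

section split

variable {R : Type u} [CommRing R] [IsLocalRing R] (x : R) (hx : x ∈ maximalIdeal R)
  [IsLocalRing (R ⧸ Ideal.span {x})]

theorem mem_maximalIdeal_of_mk_mem (r : R)
    (hr : Ideal.Quotient.mk (Ideal.span {x}) r ∈ maximalIdeal (R ⧸ Ideal.span {x})) :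
    r ∈ maximalIdeal R := by
  by_contra h
  have hu : IsUnit r := IsLocalRing.notMem_maximalIdeal.mp h
  exact (IsLocalRing.mem_maximalIdeal _).mp hr (hu.map (Ideal.Quotient.mk (Ideal.span {x})))

/-- the class of `x` in `m/xm` -/
noncomputable def xbar : QuotSMulTop x (maximalIdeal R) :=
  Submodule.Quotient.mk (⟨x, hx⟩ : maximalIdeal R)

theorem mk_smul_mk (r : R) (y : maximalIdeal R) :
    (Ideal.Quotient.mk (Ideal.span {x}) r) •
      (Submodule.Quotient.mk y : QuotSMulTop x (maximalIdeal R)) =
      Submodule.Quotient.mk (r • y) := rfl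

/-- the inclusion `k' → m/xm`, `1 ↦ [x]` -/
noncomputable def iMap : ResidueField (R ⧸ Ideal.span {x}) →ₗ[R ⧸ Ideal.span {x}]
    QuotSMulTop x (maximalIdeal R) :=
  Submodule.liftQ (maximalIdeal (R ⧸ Ideal.span {x}))
    (LinearMap.toSpanSingleton (R ⧸ Ideal.span {x}) (QuotSMulTop x (maximalIdeal R)) (xbar x hx))
    (by
      intro r' hr'
      obtain ⟨r, rfl⟩ := Ideal.Quotient.mk_surjective r'
      have hr : r ∈ maximalIdeal R := mem_maximalIdeal_of_mk_mem x r hr'
      rw [LinearMap.mem_ker, LinearMap.toSpanSingleton_apply, xbar, mk_smul_mk,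
        Submodule.Quotient.mk_eq_zero]
      have h1 : r • (⟨x, hx⟩ : maximalIdeal R) = x • (⟨r, hr⟩ : maximalIdeal R) := by
        apply Subtype.ext
        change r * x = x * r
        ring
      rw [h1]
      exact Submodule.smul_mem_pointwise_smul _ _ _ Submodule.mem_top)

theorem iMap_residue (r' : R ⧸ Ideal.span {x}) :
    iMap x hx (residue _ r') = r' • xbar x hx := rfl

end split

section retract

variable {R : Type u} [CommRing R] [IsLocalRing R] (x : R) (hx : x ∈ maximalIdeal R)
  (hx2 : x ∉ maximalIdeal R ^ 2) [IsLocalRing (R ⧸ Ideal.span {x})]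

include hx2 in
/-- a functional on `m` with value `1` at `x`, killing `m • m` -/
theorem exists_functional : ∃ l : maximalIdeal R →ₗ[R] ResidueField R,
    l ⟨x, hx⟩ = 1 ∧ ∀ (r : R) (y : maximalIdeal R), r ∈ maximalIdeal R → l (r • y) = 0 := by
  have hne : (maximalIdeal R).toCotangent ⟨x, hx⟩ ≠ 0 := by
    rw [Ne, Ideal.toCotangent_eq_zero]
    exact hx2
  obtain ⟨g, hg⟩ := LinearMap.exists_leftInverse_of_injective
    (LinearMap.toSpanSingleton (ResidueField R) (CotangentSpace R)
      ((maximalIdeal R).toCotangent ⟨x, hx⟩)) (LinearMap.ker_toSpanSingleton _ hne)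
  refine ⟨(g.restrictScalars R).comp (maximalIdeal R).toCotangent, ?_, ?_⟩
  · have h1 := LinearMap.congr_fun hg 1
    simpa using h1
  · intro r y hr
    rw [map_smul]
    have h2 : r • (((g.restrictScalars R).comp (maximalIdeal R).toCotangent) y) =
        residue R r * (((g.restrictScalars R).comp (maximalIdeal R).toCotangent) y) := by
      rw [Algebra.smul_def]
      rfl
    rw [h2, (residue_eq_zero_iff r).mpr hr, zero_mul]

instance isLocalHom_mk : IsLocalHom (Ideal.Quotient.mk (Ideal.span {x})) :=
  IsLocalHom.of_surjective _ Ideal.Quotient.mk_surjective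

include hx2 in
/-- the retraction `m/xm → k'` -/
theorem exists_retraction : ∃ p : QuotSMulTop x (maximalIdeal R) →ₗ[R ⧸ Ideal.span {x}]
    ResidueField (R ⧸ Ideal.span {x}), p.comp (iMap x hx) = LinearMap.id := by
  obtain ⟨l, hl1, hl2⟩ := exists_functional x hx hx2
  -- the `R`-linear map `k → k'`
  let φ : ResidueField R →ₗ[R] ResidueField (R ⧸ Ideal.span {x}) :=
    { toFun := ResidueField.map (Ideal.Quotient.mk (Ideal.span {x}))
      map_add' := fun a b => map_add _ a b
      map_smul' := fun r c => by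
        obtain ⟨c, rfl⟩ := residue_surjective c
        rw [RingHom.id_apply, Algebra.smul_def, ResidueField.algebraMap_eq, ← map_mul,
          ResidueField.map_residue, ResidueField.map_residue, map_mul, Algebra.smul_def]
        rfl }
  have hφ : ∀ r : R, φ (residue R r) = residue _ (Ideal.Quotient.mk (Ideal.span {x}) r) :=
    fun r => ResidueField.map_residue _ r
  let l' : maximalIdeal R →ₗ[R] ResidueField (R ⧸ Ideal.span {x}) := φ.comp l
  have hker : x • (⊤ : Submodule R (maximalIdeal R)) ≤ LinearMap.ker l' := by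
    intro y hy
    obtain ⟨z, -, rfl⟩ := (Submodule.mem_smul_pointwise_iff_exists _ _ _).mp hy
    rw [LinearMap.mem_ker]
    change φ (l (x • z)) = 0
    rw [hl2 x z hx, map_zero]
  let p₀ : QuotSMulTop x (maximalIdeal R) →ₗ[R] ResidueField (R ⧸ Ideal.span {x}) :=
    Submodule.liftQ _ l' hker
  refine ⟨p₀.extendScalarsOfSurjective Ideal.Quotient.mk_surjective, ?_⟩
  apply LinearMap.ext
  intro c
  obtain ⟨r', rfl⟩ := residue_surjective c
  obtain ⟨r, rfl⟩ := Ideal.Quotient.mk_surjective r'
  rw [LinearMap.comp_apply, iMap_residue, xbar, mk_smul_mk, LinearMap.id_apply,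
    LinearMap.extendScalarsOfSurjective_apply]
  change φ (l (r • ⟨x, hx⟩)) = _
  rw [map_smul, hl1, Algebra.smul_def, mul_one, ResidueField.algebraMap_eq, hφ]

include hx hx2 in
/-- the residue field of `R/x` is a retract of `m/xm` in the category of `R/x`-modules -/
theorem exists_retract : Nonempty (Retract
    (ModuleCat.of (R ⧸ Ideal.span {x}) (ResidueField (R ⧸ Ideal.span {x})))
    (ModuleCat.of (R ⧸ Ideal.span {x}) (QuotSMulTop x (maximalIdeal R)))) := by
  obtain ⟨p, hp⟩ := exists_retraction x hx hx2
  exact ⟨{ i := ModuleCat.ofHom (iMap x hx)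
           r := ModuleCat.ofHom p
           retract := by
             rw [← ModuleCat.ofHom_comp, hp]
             rfl }⟩

end retract

end Groth.Agent.Lead.PdQuot
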