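import Mathlib
import Groth.Agent.Lead.RegularLocal4
import Groth.Agent.Lead.DepthZero
import Groth.Agent.Lead.ResidueSplit

/-!
Lead library: Serre's theorem, converse direction: a Noetherian local ring whose residue field has
finite projective dimension is regular.
-/

set_option autoImplicit false

open CategoryTheory IsLocalRing

namespace Groth.Agent.Lead.RLR

universe u

section avoid

variable (R : Type u) [CommRing R] [IsLocalRing R] [IsNoetherianRing R]

/-- prime avoidance: either there is a nonzerodivisor in `m ∖ m²` or `m` annihilates a nonzero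
element (or `m = 0`) -/
theorem exists_nonZeroDivisor_or_socle (hm : maximalIdeal R ≠ ⊥) :
    (∃ x ∈ maximalIdeal R, x ∉ maximalIdeal R ^ 2 ∧ x ∈ nonZeroDivisors R) ∨
    (∃ a : R, a ≠ 0 ∧ ∀ y ∈ maximalIdeal R, y * a = 0) := by
  classical
  by_contra hcon
  push_neg at hcon
  obtain ⟨h1, h2⟩ := hcon
  have hfin : (associatedPrimes R R).Finite := associatedPrimes.finite R R
  have hsub : (maximalIdeal R : Set R) ⊆
      ⋃ i ∈ ((insert (maximalIdeal R ^ 2) hfin.toFinset : Finset (Ideal R)) : Set (Ideal R)),
        ((id i : Ideal R) : Set R) := by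
    intro y hy
    by_cases hy2 : y ∈ maximalIdeal R ^ 2
    · refine Set.mem_iUnion₂.mpr ⟨maximalIdeal R ^ 2, ?_, hy2⟩
      simp
    · have hnr : y ∈ (nonZeroDivisors R : Set R)ᶜ := fun hreg => h1 y hy hy2 hreg
      rw [← biUnion_associatedPrimes_eq_compl_nonZeroDivisors] at hnr
      obtain ⟨p, hp, hyp⟩ := Set.mem_iUnion₂.mp hnr
      refine Set.mem_iUnion₂.mpr ⟨p, ?_, hyp⟩
      simp [hp]
  obtain ⟨i, hi, hle⟩ := (Ideal.subset_union_prime (f := id) (maximalIdeal R ^ 2)
    (maximalIdeal R ^ 2) (fun i hi hne _ => by
      have : i ∈ associatedPrimes R R := by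
        rcases Finset.mem_insert.mp hi with h | h
        · exact absurd h hne
        · exact hfin.mem_toFinset.mp h
      exact this.isPrime)).mp hsub
  rcases Finset.mem_insert.mp hi with h | h
  · -- `m ≤ m²`
    subst h
    apply hm
    apply Submodule.eq_bot_of_le_smul_of_le_jacobson_bot (maximalIdeal R) _
      (IsNoetherian.noetherian _) _ (IsLocalRing.maximalIdeal_le_jacobson _)
    rw [smul_eq_mul, ← pow_two]
    exact hle
  · have hass : i ∈ associatedPrimes R R := hfin.mem_toFinset.mp h
    have hprime : i.IsPrime := hass.isPrime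
    have hi_eq : maximalIdeal R = i := (maximalIdeal.isMaximal R).eq_of_le hprime.ne_top hle
    obtain ⟨-, a, ha⟩ := (isAssociatedPrime_iff.mp hass)
    have ha0 : a ≠ 0 := by
      rintro rfl
      apply hprime.ne_top
      rw [ha]
      ext r
      simp [Submodule.mem_colon_singleton]
    obtain ⟨y, hy, hya⟩ := h2 a ha0
    apply hya
    have : y ∈ Submodule.colon (⊥ : Submodule R R) {a} := by
      rw [← ha, ← hi_eq]
      exact hy
    rw [Submodule.mem_colon_singleton] at this
    exact this

end avoid

section main

/-- a free residue field forces the maximal ideal to vanish -/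
theorem maximalIdeal_eq_bot_of_free_residueField (R : Type u) [CommRing R] [IsLocalRing R]
    [Module.Free R (ResidueField R)] : maximalIdeal R = ⊥ := by
  rw [eq_bot_iff]
  intro y hy
  rw [Submodule.mem_bot]
  let b := Module.Free.chooseBasis R (ResidueField R)
  have hne : Nonempty (Module.Free.ChooseBasisIndex R (ResidueField R)) := by
    by_contra hemp
    rw [not_nonempty_iff] at hemp
    have : Subsingleton (ResidueField R) := b.repr.toEquiv.subsingleton
    exact one_ne_zero (Subsingleton.elim (1 : ResidueField R) 0)
  obtain ⟨j⟩ := hne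
  have h1 : y • b j = 0 := by
    rw [Algebra.smul_def, ResidueField.algebraMap_eq, (residue_eq_zero_iff y).mpr hy, zero_mul]
  have h2 := congrArg (fun v => b.repr v j) h1
  simpa using h2

theorem isRegularLocalRing_of_hasProjectiveDimensionLT_aux : ∀ (N : ℕ) (R : Type u) [CommRing R]
    [IsLocalRing R] [IsNoetherianRing R], (maximalIdeal R).spanFinrank = N → ∀ n : ℕ,
    HasProjectiveDimensionLT (ModuleCat.of R (ResidueField R)) (n + 1) →
    IsRegularLocalRing R := by
  intro N
  induction N using Nat.strong_induction_on with
  | _ N ih =>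
  intro R _ _ _ hN n hpd
  by_cases hm : maximalIdeal R = ⊥
  · apply IsRegularLocalRing.of_spanFinrank_maximalIdeal_le
    rw [hm]
    have h0 : (⊥ : Ideal R).spanFinrank = 0 := by
      rw [Submodule.spanFinrank_eq_zero_iff_eq_bot (Submodule.fg_bot)]
    rw [h0]
    exact_mod_cast ringKrullDim_nonneg_of_nontrivial
  rcases exists_nonZeroDivisor_or_socle R hm with ⟨x, hxm, hx2, hxreg⟩ | ⟨a, ha, ham⟩
  · -- reduce to `R/x`
    have hne : Ideal.span {x} ≠ ⊤ := by
      intro h
      have h1 : (1 : R) ∈ maximalIdeal R := by
        have : Ideal.span {x} ≤ maximalIdeal R := (Ideal.span_singleton_le_iff_mem _).mpr hxm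
        exact this (h ▸ Submodule.mem_top)
      exact (maximalIdeal.isMaximal R).ne_top ((Ideal.eq_top_iff_one _).mpr h1)
    haveI : IsLocalRing (R ⧸ Ideal.span {x}) := isLocalRing_quotient R _ hne
    -- embedding dimension drops
    obtain ⟨t, htcard, htspan⟩ := exists_finset_span_insert R x hxm hx2
    have hlt : (maximalIdeal (R ⧸ Ideal.span {x})).spanFinrank < N := by
      have hm' : maximalIdeal (R ⧸ Ideal.span {x}) =
          Ideal.span ((Ideal.Quotient.mk (Ideal.span {x})) '' (t : Set R)) := by
        rw [← map_maximalIdeal_of_surjective (Ideal.Quotient.mk (Ideal.span {x}))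
          Ideal.Quotient.mk_surjective, ← htspan, Ideal.map_span, Set.image_insert_eq]
        have h0 : (Ideal.Quotient.mk (Ideal.span {x})) x = 0 :=
          Ideal.Quotient.eq_zero_iff_mem.mpr (Ideal.mem_span_singleton_self x)
        rw [h0, Ideal.span_insert_zero]
      have : (maximalIdeal (R ⧸ Ideal.span {x})).spanFinrank ≤ t.card := by
        rw [hm']
        refine (Submodule.spanFinrank_span_le_ncard_of_finite (t.finite_toSet.image _)).trans ?_
        refine (Set.ncard_image_le t.finite_toSet).trans ?_
        rw [Set.ncard_coe_finset]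
      omega
    -- projective dimension of `m`
    have hxR : IsSMulRegular R x := Module.Flat.isSMulRegular_of_nonZeroDivisors hxreg
    have hS := Groth.Agent.H29.GlDimL.shortExact_of_exact (maximalIdeal R).subtype
      (Algebra.linearMap R (ResidueField R)) Subtype.val_injective residue_surjective (by
        intro y
        constructor
        · intro hy
          exact ⟨⟨y, (residue_eq_zero_iff y).mp hy⟩, rfl⟩
        · rintro ⟨z, rfl⟩
          exact (residue_eq_zero_iff _).mpr z.2)
    have hprojR : Projective (ModuleCat.of R R) := (IsProjective.iff_projective _).mp inferInstance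
    have hpdm : HasProjectiveDimensionLT (ModuleCat.of R (maximalIdeal R)) (n + 1) := by
      have h2 : HasProjectiveDimensionLT (ModuleCat.of R (ResidueField R)) (n + 1 + 1) :=
        hasProjectiveDimensionLT_of_ge _ (n + 1) _ (Nat.le_succ _)
      exact (hS.hasProjectiveDimensionLT_X₃_iff n hprojR).mp h2
    have hmreg : IsSMulRegular (maximalIdeal R) x :=
      Groth.Agent.Lead.PdQuot.isSMulRegular_of_injective x (maximalIdeal R).subtype
        Subtype.val_injective hxR
    have hpdQ := Groth.Agent.Lead.PdQuot.hasProjectiveDimensionLT_quotSMulTop x hxR n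
      (maximalIdeal R) hmreg hpdm
    obtain ⟨hretr⟩ := Groth.Agent.Lead.PdQuot.exists_retract x hxm hx2
    have hpdk' : HasProjectiveDimensionLT
        (ModuleCat.of (R ⧸ Ideal.span {x}) (ResidueField (R ⧸ Ideal.span {x}))) (n + 1) :=
      hretr.hasProjectiveDimensionLT (n + 1)
    haveI : IsRegularLocalRing (R ⧸ Ideal.span {x}) :=
      ih _ hlt (R ⧸ Ideal.span {x}) rfl n hpdk'
    exact of_quotient_regular R x hxm hxreg
  · -- depth zero: `k` is free, so `m = 0`
    exfalso
    haveI : Module.Free R (ResidueField R) :=
      Groth.Agent.Lead.PdQuot.free_of_hasProjectiveDimensionLT_of_socle a ha ham n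
        (ResidueField R) hpd
    exact hm (maximalIdeal_eq_bot_of_free_residueField R)

/-- Serre: a Noetherian local ring whose residue field has finite projective dimension is
regular. -/
theorem isRegularLocalRing_of_hasProjectiveDimensionLT (R : Type u) [CommRing R] [IsLocalRing R]
    [IsNoetherianRing R] (n : ℕ)
    (h : HasProjectiveDimensionLT (ModuleCat.of R (ResidueField R)) n) :
    IsRegularLocalRing R :=
  isRegularLocalRing_of_hasProjectiveDimensionLT_aux _ R rfl n
    (hasProjectiveDimensionLT_of_ge _ n _ (Nat.le_succ _))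

end main

end Groth.Agent.Lead.RLR
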