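import Mathlib
import Groth.Agent.Lead.RegularGlDim
import Groth.Agent.Lead.SerreConverse

/-!
Lead library: projective dimension descends along faithfully flat maps (finite modules over a
Noetherian ring); regularity descends along flat local homomorphisms.
-/

set_option autoImplicit false

open CategoryTheory IsLocalRing TensorProduct

namespace Groth.Agent.Lead.RLR

universe u

/-- faithfully flat descent of projective dimension for finite modules -/
theorem hasProjectiveDimensionLT_of_baseChange (R S : Type u) [CommRing R] [CommRing S]
    [Algebra R S] [IsNoetherianRing R] [Module.FaithfullyFlat R S] :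
    ∀ (n : ℕ) (M : Type u) [AddCommGroup M] [Module R M] [Module.Finite R M],
      HasProjectiveDimensionLT (ModuleCat.of S (S ⊗[R] M)) (n + 1) →
      HasProjectiveDimensionLT (ModuleCat.of R M) (n + 1) := by
  intro n
  induction n with
  | zero =>
    intro M _ _ _ h
    rw [zero_add, ← projective_iff_hasProjectiveDimensionLT_one] at h ⊢
    have hproj : Module.Projective S (S ⊗[R] M) := (IsProjective.iff_projective _).mpr h
    haveI : Module.Flat S (S ⊗[R] M) := inferInstance
    haveI : Module.Flat R M := Module.Flat.of_flat_tensorProduct R M S
    haveI : Module.FinitePresentation R M := Module.finitePresentation_of_finite R M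
    have : Module.Projective R M := Module.Flat.projective_of_finitePresentation
    exact (IsProjective.iff_projective _).mp this
  | succ n ih =>
    intro M _ _ _ h
    obtain ⟨m, g, hg⟩ := Module.Finite.exists_fin' R M
    let K := LinearMap.ker g
    have hexact : Function.Exact K.subtype g := LinearMap.exact_subtype_ker_map g
    have hinj : Function.Injective K.subtype := Subtype.val_injective
    have hS := Groth.Agent.H29.GlDimL.shortExact_of_exact K.subtype g hinj hg hexact
    have hproj : Projective (ModuleCat.of R (Fin m → R)) :=
      (IsProjective.iff_projective _).mp inferInstance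
    have hinj' : Function.Injective (K.subtype.baseChange S) := by
      rw [LinearMap.baseChange_eq_ltensor]
      exact Module.Flat.lTensor_preserves_injective_linearMap _ hinj
    have hsurj' : Function.Surjective (g.baseChange S) := by
      rw [LinearMap.baseChange_eq_ltensor]
      exact LinearMap.lTensor_surjective S hg
    have hexact' : Function.Exact (K.subtype.baseChange S) (g.baseChange S) := by
      have := lTensor_exact S hexact hg
      intro y
      rw [LinearMap.baseChange_eq_ltensor, this y]
      rfl
    have hS' := Groth.Agent.H29.GlDimL.shortExact_of_exact (K.subtype.baseChange S)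
      (g.baseChange S) hinj' hsurj' hexact'
    have hproj' : Projective (ModuleCat.of S (S ⊗[R] (Fin m → R))) :=
      (IsProjective.iff_projective _).mp inferInstance
    have hK' : HasProjectiveDimensionLT (ModuleCat.of S (S ⊗[R] K)) (n + 1) :=
      (hS'.hasProjectiveDimensionLT_X₃_iff n hproj').mp h
    have hK := ih K hK'
    exact (hS.hasProjectiveDimensionLT_X₃_iff n hproj).mpr hK

/-- regularity descends along flat local homomorphisms of Noetherian local rings (S0565) -/
theorem isRegularLocalRing_of_flat (R S : Type u) [CommRing R] [IsLocalRing R]
    [IsNoetherianRing R] [CommRing S] [IsRegularLocalRing S] [Algebra R S]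
    [IsLocalHom (algebraMap R S)] [Module.Flat R S] : IsRegularLocalRing R := by
  haveI : Module.FaithfullyFlat R S := Module.FaithfullyFlat.of_flat_of_isLocalHom
  obtain ⟨d, hd, -⟩ := exists_ringKrullDim_eq S
  have h1 := hasProjectiveDimensionLT S d hd (ModuleCat.of S (S ⊗[R] ResidueField R))
  have h2 := hasProjectiveDimensionLT_of_baseChange R S d (ResidueField R) h1
  exact isRegularLocalRing_of_hasProjectiveDimensionLT R (d + 1) h2

end Groth.Agent.Lead.RLR
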