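import Mathlib
import Groth.Agent.Lead.RegularGlDim
import Groth.Agent.Lead.SerreConverse

/-!
Lead library: localizations of regular local rings at primes are regular (Serre).
-/

set_option autoImplicit false

open CategoryTheory IsLocalRing

namespace Groth.Agent.Lead.RLR

universe u

section loc

variable (R : Type u) [CommRing R] (p : Ideal R) [p.IsPrime]

/-- `(R/p)_p` is the residue field of `R_p` -/
noncomputable def localizedQuotientEquiv :
    LocalizedModule p.primeCompl (R ⧸ p) ≃ₗ[Localization.AtPrime p]
      ResidueField (Localization.AtPrime p) :=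
  let f := Algebra.linearMap R (Localization.AtPrime p)
  let g := Submodule.toLocalizedQuotient' (Localization.AtPrime p) p.primeCompl f p
  let e₁ := IsLocalizedModule.iso p.primeCompl g
  let e₂ := e₁.extendScalarsOfIsLocalization p.primeCompl (Localization.AtPrime p)
  let e₃ : ((Localization.AtPrime p) ⧸
      Submodule.localized' (Localization.AtPrime p) p.primeCompl f p) ≃ₗ[Localization.AtPrime p]
      ((Localization.AtPrime p) ⧸ maximalIdeal (Localization.AtPrime p)) :=
    Submodule.quotEquivOfEq _ _ (by
      rw [Ideal.localized'_eq_map, IsLocalization.AtPrime.map_eq_maximalIdeal])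
  e₂.trans e₃

/-- projective dimension of the residue field of `R_p` is bounded by that of `R/p` -/
theorem hasProjectiveDimensionLT_residueField_localization [IsNoetherianRing R] (n : ℕ)
    (h : HasProjectiveDimensionLT (ModuleCat.of R (R ⧸ p)) (n + 1)) :
    HasProjectiveDimensionLT (ModuleCat.of (Localization.AtPrime p)
      (ResidueField (Localization.AtPrime p))) (n + 1) := by
  haveI : HasProjectiveDimensionLE (ModuleCat.of R (R ⧸ p)) n := h
  have h1 := ModuleCat.localizedModule_hasProjectiveDimensionLE n p.primeCompl
    (ModuleCat.of R (R ⧸ p))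
  have e : ((ModuleCat.of R (R ⧸ p)).localizedModule p.primeCompl) ≅
      ModuleCat.of (Localization.AtPrime p) (LocalizedModule p.primeCompl (R ⧸ p)) :=
    (Shrink.linearEquiv (Localization.AtPrime p)
      (LocalizedModule p.primeCompl (R ⧸ p))).toModuleIso
  exact hasProjectiveDimensionLT_of_iso (e ≪≫ (localizedQuotientEquiv R p).toModuleIso) (n + 1)

end loc

/-- Serre: the localization of a regular local ring at a prime is regular. -/
theorem isRegularLocalRing_localization (R : Type u) [CommRing R] [IsRegularLocalRing R]
    (p : Ideal R) [p.IsPrime] : IsRegularLocalRing (Localization.AtPrime p) := by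
  obtain ⟨d, hd, -⟩ := exists_ringKrullDim_eq R
  have h1 := hasProjectiveDimensionLT R d hd (ModuleCat.of R (R ⧸ p))
  have h2 := hasProjectiveDimensionLT_residueField_localization R p d h1
  exact isRegularLocalRing_of_hasProjectiveDimensionLT _ (d + 1) h2

end Groth.Agent.Lead.RLR
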