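import Groth.Agent.Lead.Fitting
import Mathlib.RingTheory.Localization.BaseChange
import Mathlib.RingTheory.Localization.Ideal
import Mathlib.Algebra.Module.LocalizedModule.Basic
import Mathlib.RingTheory.IsTensorProduct
import Mathlib.RingTheory.Localization.Module
import Mathlib.LinearAlgebra.Dimension.Free
import Mathlib.LinearAlgebra.FiniteDimensional.Defs
import Mathlib.RingTheory.LocalRing.ResidueField.Ideal
import Mathlib.RingTheory.Localization.Finiteness
import Mathlib.LinearAlgebra.Dimension.StrongRankCondition
import Mathlib.RingTheory.Localization.Away.Basic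

set_option autoImplicit false

namespace Groth.Agent.Lead

open TensorProduct

universe u v w u' v'

section congr

variable {R : Type u} [CommRing R] {N : Type v} [AddCommGroup N] [Module R N]
  {N' : Type v'} [AddCommGroup N'] [Module R N']

/-- Fitting ideals grow along surjections (no finiteness needed). -/
theorem fitt_ideal_le_of_surjective' (f : N →ₗ[R] N') (hf : Function.Surjective f) (k : ℕ) :
    Fitt.ideal R N k ≤ Fitt.ideal R N' k := by
  unfold Fitt.ideal
  apply Ideal.span_mono
  rintro d ⟨n, x, a, hx, hrel, rfl⟩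
  refine ⟨n, f ∘ x, a, ?_, ?_, rfl⟩
  · rw [Set.range_comp, ← Submodule.map_span, hx, Submodule.map_top, LinearMap.range_eq_top]
    exact hf
  · intro i hi
    have := congrArg f (hrel i hi)
    simpa [map_sum] using this

theorem fitt_ideal_congr (e : N ≃ₗ[R] N') (k : ℕ) : Fitt.ideal R N k = Fitt.ideal R N' k :=
  le_antisymm (fitt_ideal_le_of_surjective' e.toLinearMap e.surjective k)
    (fitt_ideal_le_of_surjective' e.symm.toLinearMap e.symm.surjective k)

end congr

section localization

variable {R : Type u} [CommRing R] (S : Submonoid R) (A : Type u') [CommRing A] [Algebra R A]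
  [IsLocalization S A] {M : Type v} [AddCommGroup M] [Module R M] {N : Type v'} [AddCommGroup N]
  [Module R N] [Module A N] [IsScalarTower R A N] (f : M →ₗ[R] N) [IsLocalizedModule S f]

include S f

/-- Fitting ideals commute with localization. -/
theorem fitt_ideal_localization [Module.Finite R M] (k : ℕ) :
    Fitt.ideal A N k = (Fitt.ideal R M k).map (algebraMap R A) := by
  rw [← fitt_ideal_baseChange (R' := A) (M := M) k]
  exact (fitt_ideal_congr (IsLocalizedModule.isBaseChange S A f).equiv k).symm

/-- If the localization is generated by `k` elements then `Fit_k` meets the multiplicative set. -/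
theorem exists_mem_fitt_ideal_of_span_localization [Module.Finite R M] {k : ℕ} (g : Fin k → N)
    (hg : Submodule.span A (Set.range g) = ⊤) : ∃ d ∈ Fitt.ideal R M k, d ∈ S := by
  have h1 : Fitt.ideal A N k = ⊤ := fitt_ideal_eq_top_of_le g hg le_rfl
  rw [fitt_ideal_localization S A f k] at h1
  by_contra hcon
  push Not at hcon
  have hdisj : Disjoint (S : Set R) (Fitt.ideal R M k : Set R) := by
    rw [Set.disjoint_left]
    intro d hdS hdF
    exact hcon d hdF hdS
  exact (IsLocalization.map_algebraMap_ne_top_iff_disjoint S A _).mpr hdisj h1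


/-- If an `s × s` minor of the relation matrix becomes invertible in the localization, then the
localized module is generated by the `n - s` generators not involved in the minor. -/
theorem exists_span_localization_of_minor {n s k : ℕ} (hnk : n ≤ s + k) (x : Fin n → M)
    (hx : Submodule.span R (Set.range x) = ⊤) (z : Fin s → (Fin n → R))
    (hz : ∀ b, z b ∈ relations R x) (e : Fin s → Fin n) (he : Function.Injective e)
    (hd : (Matrix.of fun a b => z b (e a)).det ∈ S) :
    ∃ g : Fin k → N, Submodule.span A (Set.range g) = ⊤ := by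
  classical
  set C : Finset (Fin n) := Finset.univ.filter (fun i => i ∉ Set.range e) with hC
  set T : Submodule A N := Submodule.span A ((fun i => f (x i)) '' (C : Set (Fin n))) with hT
  set Amat : Matrix (Fin s) (Fin s) R := Matrix.of fun b a => z b (e a) with hA
  have hdet : Amat.det = (Matrix.of fun a b => z b (e a)).det := by
    rw [← Matrix.det_transpose]; rfl
  have hrow : ∀ b, ∑ a, Amat b a • f (x (e a)) ∈ T := by
    intro b
    have hrel : ∑ i, z b i • x i = 0 := hz b
    have hsplit : ∑ i, z b i • x i = ∑ a, z b (e a) • x (e a) + ∑ i ∈ C, z b i • x i := by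
      rw [← Finset.sum_filter_add_sum_filter_not Finset.univ (fun i => i ∈ Set.range e)]
      congr 1
      rw [← Finset.sum_image (f := fun i => z b i • x i) (s := Finset.univ) (g := e)
        (fun a _ a' _ h => he h)]
      apply Finset.sum_congr _ (fun _ _ => rfl)
      ext i; simp
    have : ∑ a, Amat b a • f (x (e a)) = - ∑ i ∈ C, z b i • f (x i) := by
      have h := congrArg f (hsplit.symm.trans hrel)
      simp only [map_add, map_sum, map_smul, map_zero] at h
      exact eq_neg_of_add_eq_zero_left h
    rw [this]
    refine Submodule.neg_mem _ (Submodule.sum_mem _ fun i hi => ?_)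
    rw [← algebraMap_smul A (z b i)]
    exact Submodule.smul_mem _ _ (Submodule.subset_span ⟨i, hi, rfl⟩)
  have hcramer : ∀ a, Amat.det • f (x (e a)) ∈ T := by
    intro a
    have h2 : ∑ b, (Matrix.adjugate Amat) a b • ∑ a', Amat b a' • f (x (e a')) =
        Amat.det • f (x (e a)) := by
      simp only [Finset.smul_sum, smul_smul]
      rw [Finset.sum_comm]
      simp only [← Finset.sum_smul, ← Matrix.mul_apply, Matrix.adjugate_mul, Matrix.smul_apply,
        Matrix.one_apply, smul_eq_mul, mul_ite, mul_one, mul_zero, ite_smul, zero_smul,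
        Finset.sum_ite_eq, Finset.mem_univ, if_true]
    rw [← h2]
    refine Submodule.sum_mem _ fun b _ => ?_
    rw [← algebraMap_smul A ((Matrix.adjugate Amat) a b)]
    exact Submodule.smul_mem _ _ (hrow b)
  have hunit : IsUnit (algebraMap R A Amat.det) := by
    rw [hdet]; exact IsLocalization.map_units A ⟨_, hd⟩
  have hmem_e : ∀ a, f (x (e a)) ∈ T := by
    intro a
    have := hcramer a
    rw [← algebraMap_smul A] at this
    obtain ⟨u, hu⟩ := hunit
    have h3 := Submodule.smul_mem T (↑u⁻¹ : A) this
    rwa [← hu, smul_smul, Units.inv_mul, one_smul] at h3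
  have hall : ∀ i, f (x i) ∈ T := by
    intro i
    by_cases hi : i ∈ Set.range e
    · obtain ⟨a, rfl⟩ := hi; exact hmem_e a
    · refine Submodule.subset_span ⟨i, ?_, rfl⟩
      simp only [hC, Finset.coe_filter, Finset.mem_univ, true_and, Set.mem_ofPred_eq]
      exact hi
  have hTtop : T = ⊤ := by
    rw [eq_top_iff, ← span_eq_top_of_isLocalizedModule A S f hx, Submodule.span_le]
    rintro _ ⟨_, ⟨i, rfl⟩, rfl⟩
    exact hall i
  have hcard : C.card ≤ k := by
    have h1 : C.card = n - s := by
      have : C = (Finset.univ.image e)ᶜ := by ext i; simp [hC]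
      rw [this, Finset.card_compl, Finset.card_image_of_injective _ he]; simp
    omega
  let φ : Fin C.card ≃ C := C.equivFin.symm
  refine ⟨fun j => if h : (j : ℕ) < C.card then f (x (φ ⟨j, h⟩)) else 0, ?_⟩
  rw [eq_top_iff, ← hTtop, hT, Submodule.span_le]
  rintro _ ⟨i, hi, rfl⟩
  apply Submodule.subset_span
  let j0 : Fin C.card := φ.symm ⟨i, hi⟩
  refine ⟨⟨j0, lt_of_lt_of_le j0.isLt hcard⟩, ?_⟩
  simp only [Fin.is_lt, dite_true, Fin.eta, j0, Equiv.apply_symm_apply]

end localization


section field

theorem minorIdeal_bot_succ {R : Type u} [CommRing R] {ι : Type w} (j : ℕ) :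
    minorIdeal (⊥ : Submodule R (ι → R)) (j + 1) = ⊥ := by
  rw [eq_bot_iff, minorIdeal_le_iff]
  intro z e hz
  have : (Matrix.of fun a b => z b (e a)) = (0 : Matrix (Fin (j + 1)) (Fin (j + 1)) R) := by
    ext a b
    have := (Submodule.mem_bot R).mp (hz b)
    simp [this]
  rw [this, Matrix.det_zero]
  exact Submodule.zero_mem _

/-- Fitting ideals of a finite dimensional vector space. -/
theorem fitt_ideal_field_eq_top_iff {F : Type u} [Field F] {V : Type v} [AddCommGroup V]
    [Module F V] [Module.Finite F V] (k : ℕ) :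
    Fitt.ideal F V k = ⊤ ↔ Module.finrank F V ≤ k := by
  let b := Module.finBasis F V
  have hrel : relations F (fun i => b i) = ⊥ := by
    rw [eq_bot_iff]
    intro v hv
    rw [mem_relations] at hv
    rw [Submodule.mem_bot]
    funext i
    exact (Fintype.linearIndependent_iff.mp b.linearIndependent) v hv i
  rw [fitt_ideal_eq_minorIdeal (fun i => b i) b.span_eq, hrel]
  constructor
  · intro h
    by_contra hcon
    push Not at hcon
    obtain ⟨j, hj⟩ : ∃ j, Module.finrank F V - k = j + 1 := ⟨Module.finrank F V - k - 1, by omega⟩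
    rw [hj, minorIdeal_bot_succ] at h
    exact bot_ne_top h
  · intro h
    rw [Nat.sub_eq_zero_of_le h, minorIdeal_zero]

theorem map_eq_top_iff_of_field {R : Type u} [CommRing R] {F : Type u'} [Field F] (φ : R →+* F)
    (I : Ideal R) : I.map φ = ⊤ ↔ ¬ I ≤ RingHom.ker φ := by
  constructor
  · intro h hle
    have : I.map φ = ⊥ := by
      rw [eq_bot_iff, Ideal.map_le_iff_le_comap]
      intro d hd
      exact hle hd
    rw [this] at h
    exact bot_ne_top h
  · intro h
    rw [SetLike.not_le_iff_exists] at h
    obtain ⟨d, hd, hdk⟩ := h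
    rw [Ideal.eq_top_iff_one]
    have hne : φ d ≠ 0 := hdk
    have : (1 : F) = (φ d)⁻¹ * φ d := by field_simp
    rw [this]
    exact Ideal.mul_mem_left _ _ (Ideal.mem_map_of_mem φ hd)

end field

section prime

open TensorProduct

variable {R : Type u} [CommRing R] (M : Type v) [AddCommGroup M] [Module R M] [Module.Finite R M]

theorem not_fitt_ideal_le_iff_finrank (k : ℕ) (p : Ideal R) [p.IsPrime] :
    ¬ Fitt.ideal R M k ≤ p ↔ Module.finrank p.ResidueField (p.ResidueField ⊗[R] M) ≤ k := by
  rw [← fitt_ideal_field_eq_top_iff, fitt_ideal_baseChange, map_eq_top_iff_of_field,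
    Ideal.ker_algebraMap_residueField]

omit [Module.Finite R M] in
/-- If `Fit_k(M)` is not contained in `p` there is an invertible minor. -/
theorem exists_minor_notMem_of_not_fitt_ideal_le {n : ℕ} (x : Fin n → M)
    (hx : Submodule.span R (Set.range x) = ⊤) (k : ℕ) (p : Ideal R) [p.IsPrime]
    (h : ¬ Fitt.ideal R M k ≤ p) :
    ∃ (z : Fin (n - k) → (Fin n → R)) (e : Fin (n - k) → Fin n), (∀ b, z b ∈ relations R x) ∧
      Function.Injective e ∧ (Matrix.of fun a b => z b (e a)).det ∉ p := by
  rw [fitt_ideal_eq_minorIdeal x hx, minorIdeal_le_iff] at h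
  push Not at h
  obtain ⟨z, e, hz, hd⟩ := h
  refine ⟨z, e, hz, ?_, hd⟩
  by_contra hinj
  rw [Function.Injective] at hinj
  push Not at hinj
  obtain ⟨a1, a2, h12, hne⟩ := hinj
  apply hd
  have : (Matrix.of fun a b => z b (e a)).det = 0 := by
    apply Matrix.det_zero_of_row_eq hne
    funext b
    simp [h12]
  rw [this]; exact Submodule.zero_mem _

end prime


section free

variable {R : Type u} [CommRing R] {M : Type v} [AddCommGroup M] [Module R M]

theorem relations_eq_bot_of_basis {r : ℕ} (b : Module.Basis (Fin r) R M) :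
    relations R (fun i => b i) = ⊥ := by
  rw [eq_bot_iff]
  intro v hv
  rw [mem_relations] at hv
  rw [Submodule.mem_bot]
  funext i
  exact (Fintype.linearIndependent_iff.mp b.linearIndependent) v hv i

theorem fitt_ideal_eq_bot_of_basis {r : ℕ} (b : Module.Basis (Fin r) R M) {k : ℕ} (hk : k < r) :
    Fitt.ideal R M k = ⊥ := by
  rw [fitt_ideal_eq_minorIdeal (fun i => b i) b.span_eq, relations_eq_bot_of_basis]
  obtain ⟨j, hj⟩ : ∃ j, r - k = j + 1 := ⟨r - k - 1, by omega⟩
  rw [hj, minorIdeal_bot_succ]

theorem fitt_ideal_eq_top_of_basis {r : ℕ} (b : Module.Basis (Fin r) R M) {k : ℕ} (hk : r ≤ k) :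
    Fitt.ideal R M k = ⊤ :=
  fitt_ideal_eq_top_of_le (fun i => b i) b.span_eq hk

/-- A generating `r`-tuple of a module with vanishing `(r-1)`-st Fitting ideal is linearly
independent. -/
theorem linearIndependent_of_fitt_ideal_eq_bot {r : ℕ} (g : Fin r → M)
    (hg : Submodule.span R (Set.range g) = ⊤) (h : r = 0 ∨ Fitt.ideal R M (r - 1) = ⊥) :
    LinearIndependent R g := by
  rw [Fintype.linearIndependent_iff]
  intro v hv i
  rcases h with h | h
  · subst h; exact i.elim0
  · have hr : 0 < r := i.pos
    rw [fitt_ideal_eq_minorIdeal g hg] at h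
    have h1 : r - (r - 1) = 1 := by omega
    rw [h1] at h
    have hmem := minor_mem_minorIdeal (relations R g) (j := 1) (fun _ => v) (fun _ => i)
      (fun _ => (mem_relations g v).mpr hv)
    rw [h] at hmem
    simpa using hmem

end free

section quot

variable {R : Type u} [CommRing R] {M : Type v} [AddCommGroup M] [Module R M]

/-- If all `s`-minors through the relation rows `z` are divisible by the minor `d` on the columns
`e`, then modulo the `d`-torsion the generators `x (e j)` are redundant. -/
theorem exists_span_quotient_of_minor_dvd {n s k : ℕ} (hnk : n ≤ s + k) (x : Fin n → M)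
    (hx : Submodule.span R (Set.range x) = ⊤) (z : Fin s → (Fin n → R))
    (hz : ∀ b, z b ∈ relations R x) (e : Fin s → Fin n) (he : Function.Injective e)
    (hdvd : ∀ e' : Fin s → Fin n, (Matrix.of fun a b => z b (e a)).det ∣
      (Matrix.of fun a b => z b (e' a)).det)
    (W : Submodule R M) (hW : ∀ y : M, (Matrix.of fun a b => z b (e a)).det • y = 0 → y ∈ W) :
    ∃ g : Fin k → M ⧸ W, Submodule.span R (Set.range g) = ⊤ := by
  classical
  set d := (Matrix.of fun a b => z b (e a)).det with hd
  set C : Finset (Fin n) := Finset.univ.filter (fun i => i ∉ Set.range e) with hC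
  set T : Submodule R (M ⧸ W) := Submodule.span R ((fun i => W.mkQ (x i)) '' (C : Set (Fin n))) with hT
  set B : Matrix (Fin s) (Fin s) R := Matrix.of fun b a => z b (e a) with hB
  have hBdet : B.det = d := by rw [hd, ← Matrix.det_transpose]; rfl
  -- the coefficients
  set c : Fin s → Fin n → R := fun j i => (B.adjugate.mulVec (fun b => z b i)) j with hc
  have hc_minor : ∀ j i, c j i = (Matrix.of fun a b => z b (Function.update e j i a)).det := by
    intro j i
    rw [hc]
    simp only
    rw [← Matrix.cramer_eq_adjugate_mulVec, Matrix.cramer_apply, ← Matrix.det_transpose]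
    congr 1
    ext a b
    simp only [Matrix.transpose_apply, Matrix.updateCol_apply, Matrix.of_apply, hB, Function.update_apply]
    split_ifs <;> rfl
  have hc_e : ∀ j a, c j (e a) = if j = a then d else 0 := by
    intro j a
    have : c j (e a) = (B.adjugate * B) j a := by
      rw [hc, Matrix.mul_apply]; rfl
    rw [this, Matrix.adjugate_mul, hBdet]
    simp [Matrix.smul_apply, Matrix.one_apply]
  have hrel : ∀ j, ∑ i, c j i • x i = 0 := by
    intro j
    have h1 : ∑ b, B.adjugate j b • ∑ i, z b i • x i = 0 := by
      refine Finset.sum_eq_zero fun b _ => ?_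
      rw [(mem_relations x (z b)).mp (hz b), smul_zero]
    rw [← h1]
    simp only [Finset.smul_sum, smul_smul]
    rw [Finset.sum_comm]
    refine Finset.sum_congr rfl fun i _ => ?_
    rw [← Finset.sum_smul]
    rfl
  choose c' hc' using fun j i => (hc_minor j i ▸ hdvd (Function.update e j i) : d ∣ c j i)
  have hsplit : ∀ j, ∑ i, c j i • x i = d • x (e j) + ∑ i ∈ C, c j i • x i := by
    intro j
    rw [← Finset.sum_filter_add_sum_filter_not Finset.univ (fun i => i ∈ Set.range e)]
    congr 1
    have hfilter : Finset.univ.filter (fun i => i ∈ Set.range e) = Finset.univ.image e := by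
      ext i; simp
    rw [hfilter, Finset.sum_image (fun a _ a' _ h => he h), Finset.sum_eq_single j]
    · rw [hc_e]; simp
    · intro a _ haj
      rw [hc_e, if_neg (Ne.symm haj), zero_smul]
    · intro h; exact absurd (Finset.mem_univ j) h
  have hmem_e : ∀ j, W.mkQ (x (e j)) ∈ T := by
    intro j
    have hy : x (e j) + ∑ i ∈ C, c' j i • x i ∈ W := by
      apply hW
      rw [smul_add, Finset.smul_sum]
      have := (hsplit j).symm.trans (hrel j)
      rw [← this]
      congr 1
      refine Finset.sum_congr rfl fun i _ => ?_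
      rw [smul_smul, ← hc']
    have h0 : W.mkQ (x (e j) + ∑ i ∈ C, c' j i • x i) = 0 := (Submodule.Quotient.mk_eq_zero W).mpr hy
    rw [map_add, map_sum] at h0
    rw [eq_neg_of_add_eq_zero_left h0]
    refine Submodule.neg_mem _ (Submodule.sum_mem _ fun i hi => ?_)
    rw [map_smul]
    exact Submodule.smul_mem _ _ (Submodule.subset_span ⟨i, hi, rfl⟩)
  have hall : ∀ i, W.mkQ (x i) ∈ T := by
    intro i
    by_cases hi : i ∈ Set.range e
    · obtain ⟨a, rfl⟩ := hi; exact hmem_e a
    · refine Submodule.subset_span ⟨i, ?_, rfl⟩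
      simp only [hC, Finset.coe_filter, Finset.mem_univ, true_and, Set.mem_ofPred_eq]
      exact hi
  have hTtop : T = ⊤ := by
    rw [eq_top_iff]
    rintro y -
    obtain ⟨m, rfl⟩ := W.mkQ_surjective y
    have hm : m ∈ Submodule.span R (Set.range x) := by rw [hx]; trivial
    induction hm using Submodule.span_induction with
    | mem m hm => obtain ⟨i, rfl⟩ := hm; exact hall i
    | zero => rw [map_zero]; exact Submodule.zero_mem _
    | add m1 m2 _ _ h1 h2 => rw [map_add]; exact Submodule.add_mem _ h1 h2
    | smul a m _ h1 => rw [map_smul]; exact Submodule.smul_mem _ _ h1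
  have hcard : C.card ≤ k := by
    have h1 : C.card = n - s := by
      have : C = (Finset.univ.image e)ᶜ := by ext i; simp [hC]
      rw [this, Finset.card_compl, Finset.card_image_of_injective _ he]; simp
    omega
  let φ : Fin C.card ≃ C := C.equivFin.symm
  refine ⟨fun j => if h : (j : ℕ) < C.card then W.mkQ (x (φ ⟨j, h⟩)) else 0, ?_⟩
  rw [eq_top_iff, ← hTtop, hT, Submodule.span_le]
  rintro _ ⟨i, hi, rfl⟩
  apply Submodule.subset_span
  let j0 : Fin C.card := φ.symm ⟨i, hi⟩
  refine ⟨⟨j0, lt_of_lt_of_le j0.isLt hcard⟩, ?_⟩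
  simp only [Fin.is_lt, dite_true, Fin.eta, j0, Equiv.apply_symm_apply]

end quot

section local_zero

theorem eq_zero_of_forall_prime_exists_pow_mul_eq_zero {R : Type u} [CommRing R] (d : R)
    (h : ∀ (p : Ideal R) [p.IsPrime], ∃ f : R, f ∉ p ∧ ∃ m : ℕ, f ^ m * d = 0) : d = 0 := by
  let J : Ideal R := Ideal.span {d} |>.annihilator
  by_contra hd
  have hJ : (Submodule.annihilator (Ideal.span {d})) ≠ ⊤ := by
    intro htop
    have h1 : (1 : R) ∈ Submodule.annihilator (Ideal.span {d}) := by rw [htop]; trivial
    rw [Submodule.mem_annihilator_span_singleton] at h1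
    exact hd (by simpa using h1)
  obtain ⟨p, hpmax, hle⟩ := Ideal.exists_le_maximal _ hJ
  have := hpmax.isPrime
  obtain ⟨f, hf, m, hm⟩ := h p
  apply hf
  apply Ideal.IsPrime.mem_of_pow_mem inferInstance m
  apply hle
  rw [Submodule.mem_annihilator_span_singleton]
  simpa using hm

end local_zero

end Groth.Agent.Lead
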