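import Mathlib
import Groth.Agent.Lead.RegularFlatDescent
import Groth.Agent.H20.ComplNoeth2

/-!
Lead library: flat base change does not increase projective dimension; a Noetherian local ring is
regular iff its completion is.
-/

set_option autoImplicit false

open CategoryTheory IsLocalRing TensorProduct

namespace Groth.Agent.Lead.RLR

universe u

/-- flat base change does not increase projective dimension (finite modules, Noetherian base) -/
theorem hasProjectiveDimensionLT_baseChange (R S : Type u) [CommRing R] [CommRing S]
    [Algebra R S] [IsNoetherianRing R] [Module.Flat R S] :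
    ∀ (n : ℕ) (M : Type u) [AddCommGroup M] [Module R M] [Module.Finite R M],
      HasProjectiveDimensionLT (ModuleCat.of R M) (n + 1) →
      HasProjectiveDimensionLT (ModuleCat.of S (S ⊗[R] M)) (n + 1) := by
  intro n
  induction n with
  | zero =>
    intro M _ _ _ h
    rw [zero_add, ← projective_iff_hasProjectiveDimensionLT_one] at h ⊢
    have hproj : Module.Projective R M := (IsProjective.iff_projective _).mpr h
    exact (IsProjective.iff_projective _).mp inferInstance
  | succ n ih =>
    intro M _ _ _ h
    obtain ⟨m, g, hg⟩ := Module.Finite.exists_fin' R M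
    let K := LinearMap.ker g
    have hexact : Function.Exact K.subtype g := LinearMap.exact_subtype_ker_map g
    have hinj : Function.Injective K.subtype := Subtype.val_injective
    have hS := Groth.Agent.H29.GlDimL.shortExact_of_exact K.subtype g hinj hg hexact
    have hproj : Projective (ModuleCat.of R (Fin m → R)) :=
      (IsProjective.iff_projective _).mp inferInstance
    have hinj' : Function.Injective (K.subtype.baseChange S) := by
      rw [LinearMap.baseChange_eq_ltensor]
      exact Module.Flat.lTensor_preserves_injective_linearMap _ hinj
    have hsurj' : Function.Surjective (g.baseChange S) := by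
      rw [LinearMap.baseChange_eq_ltensor]
      exact LinearMap.lTensor_surjective S hg
    have hexact' : Function.Exact (K.subtype.baseChange S) (g.baseChange S) := by
      have := lTensor_exact S hexact hg
      intro y
      rw [LinearMap.baseChange_eq_ltensor, this y]
      rfl
    have hS' := Groth.Agent.H29.GlDimL.shortExact_of_exact (K.subtype.baseChange S)
      (g.baseChange S) hinj' hsurj' hexact'
    have hproj' : Projective (ModuleCat.of S (S ⊗[R] (Fin m → R))) :=
      (IsProjective.iff_projective _).mp inferInstance
    have hK : HasProjectiveDimensionLT (ModuleCat.of R K) (n + 1) :=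
      (hS.hasProjectiveDimensionLT_X₃_iff n hproj).mp h
    have hK' := ih K hK
    exact (hS'.hasProjectiveDimensionLT_X₃_iff n hproj').mpr hK'

section completion

variable (A : Type u) [CommRing A] [IsLocalRing A] [IsNoetherianRing A]

local notation "Â" => AdicCompletion (maximalIdeal A) A

/-- `Â ⊗ k` is the residue field of `Â` -/
noncomputable def completionTensorResidueEquiv :
    (Â ⊗[A] ResidueField A) ≃ₗ[Â] ResidueField Â :=
  (Algebra.TensorProduct.quotIdealMapEquivTensorQuot Â (maximalIdeal A)).symm.toLinearEquiv.trans
    (Submodule.quotEquivOfEq _ _ (AdicCompletion.maximalIdeal_eq_map (R := A)).symm)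

theorem isRegularLocalRing_adicCompletion [IsRegularLocalRing A] : IsRegularLocalRing Â := by
  haveI : IsNoetherianRing Â := Groth.Agent.H20.isNoetherianRing_adicCompletion _
  obtain ⟨d, hd, -⟩ := exists_ringKrullDim_eq A
  have h1 := hasProjectiveDimensionLT_residueField A d hd
  have h2 := hasProjectiveDimensionLT_baseChange A Â d (ResidueField A) h1
  have h3 : HasProjectiveDimensionLT (ModuleCat.of Â (ResidueField Â)) (d + 1) :=
    hasProjectiveDimensionLT_of_iso (completionTensorResidueEquiv A).toModuleIso (d + 1)
  exact isRegularLocalRing_of_hasProjectiveDimensionLT _ (d + 1) h3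

theorem isRegularLocalRing_adicCompletion_iff :
    IsRegularLocalRing A ↔ IsRegularLocalRing Â := by
  constructor
  · intro h
    exact isRegularLocalRing_adicCompletion A
  · intro h
    exact isRegularLocalRing_of_flat A Â

end completion

end Groth.Agent.Lead.RLR

namespace Groth.Agent.Lead.RLR

universe u

/-- a Noetherian local ring is a DVR iff it is regular of embedding dimension one -/
theorem exists_isDiscreteValuationRing_iff (R : Type u) [CommRing R] [IsLocalRing R]
    [IsNoetherianRing R] :
    (∃ _ : IsDomain R, IsDiscreteValuationRing R) ↔
      IsRegularLocalRing R ∧ (maximalIdeal R).spanFinrank = 1 := by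
  constructor
  · rintro ⟨hdom, hdvr⟩
    refine ⟨inferInstance, ?_⟩
    rw [Submodule.spanFinrank_eq_one_iff]
    exact ⟨IsPrincipalIdealRing.principal _, hdvr.not_a_field'⟩
  · rintro ⟨hreg, h1⟩
    haveI : IsDomain R := isDomain R
    refine ⟨inferInstance, ?_⟩
    obtain ⟨hprin, hne⟩ := (Submodule.spanFinrank_eq_one_iff _).mp h1
    have hnf : ¬ IsField R := IsLocalRing.isField_iff_maximalIdeal_eq.not.mpr hne
    exact ((IsDiscreteValuationRing.TFAE R hnf).out 4 0).mp hprin

theorem exists_isDiscreteValuationRing_adicCompletion_iff (A : Type u) [CommRing A]
    [IsLocalRing A] [IsNoetherianRing A] :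
    (∃ _ : IsDomain A, IsDiscreteValuationRing A) ↔
      ∃ _ : IsDomain (AdicCompletion (maximalIdeal A) A),
        IsDiscreteValuationRing (AdicCompletion (maximalIdeal A) A) := by
  haveI : IsNoetherianRing (AdicCompletion (maximalIdeal A) A) :=
    Groth.Agent.H20.isNoetherianRing_adicCompletion _
  rw [exists_isDiscreteValuationRing_iff, exists_isDiscreteValuationRing_iff,
    AdicCompletion.spanFinrank_maximalIdeal_eq, ← isRegularLocalRing_adicCompletion_iff]

end Groth.Agent.Lead.RLR
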