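import Mathlib
import Groth.Agent.Lead.RegularCompletion
import Groth.Agent.H72.FlatCM

set_option autoImplicit false
open IsLocalRing TensorProduct CategoryTheory
universe u
namespace Groth.Agent.Lead.RLR

section
variable (A : Type u) [CommRing A] [IsLocalRing A] [IsNoetherianRing A] (I : Ideal A)

theorem isUnit_of_isUnit_evalOne (hI : I ≠ ⊤) (b : AdicCompletion I A)
    (hb : IsUnit (AdicCompletion.evalOneₐ I b)) : IsUnit b := by
  have fg : I.FG := Ideal.fg_of_isNoetherianRing I
  haveI := AdicCompletion.isAdicComplete_self I fg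
  obtain ⟨c', hc'⟩ := hb.exists_right_inv
  obtain ⟨c, rfl⟩ := AdicCompletion.evalOneₐ_surjective I c'
  have hmem : b * c - 1 ∈ I.map (algebraMap A (AdicCompletion I A)) := by
    rw [← AdicCompletion.ker_evalOneₐ_eq_map I fg, RingHom.mem_ker]
    change AdicCompletion.evalOneₐ I (b * c - 1) = 0
    rw [map_sub, map_mul, hc', map_one, sub_self]
  have hjac := IsAdicComplete.le_jacobson_bot (I.map (algebraMap A (AdicCompletion I A))) hmem
  exact isUnit_of_mul_isUnit_left (Ideal.isUnit_of_sub_one_mem_jacobson_bot _ hjac)

theorem isLocalRing_adicCompletion (hI : I ≠ ⊤) : IsLocalRing (AdicCompletion I A) := by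
  haveI : Nontrivial (A ⧸ I) := Ideal.Quotient.nontrivial_iff.mpr hI
  haveI : IsLocalRing (A ⧸ I) :=
    IsLocalRing.of_surjective' (Ideal.Quotient.mk I) Ideal.Quotient.mk_surjective
  haveI : Nontrivial (AdicCompletion I A) :=
    (AdicCompletion.evalOneₐ_surjective I).nontrivial
  refine IsLocalRing.of_nonunits_add ?_
  intro a b ha hb
  have ha' : AdicCompletion.evalOneₐ I a ∈ nonunits (A ⧸ I) :=
    fun h => ha (isUnit_of_isUnit_evalOne A I hI a h)
  have hb' : AdicCompletion.evalOneₐ I b ∈ nonunits (A ⧸ I) :=
    fun h => hb (isUnit_of_isUnit_evalOne A I hI b h)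
  intro hab
  have := IsLocalRing.nonunits_add ha' hb'
  rw [← map_add] at this
  exact this (hab.map _)

theorem isNoetherianRing_adicCompletion' : IsNoetherianRing (AdicCompletion I A) :=
  Groth.Agent.H20.isNoetherianRing_adicCompletion_of_fg I (Ideal.fg_of_isNoetherianRing I)

theorem maximalIdeal_adicCompletion_eq_map (hI : I ≠ ⊤) :
    haveI := isLocalRing_adicCompletion A I hI
    maximalIdeal (AdicCompletion I A) =
      (maximalIdeal A).map (algebraMap A (AdicCompletion I A)) :=
  haveI := isLocalRing_adicCompletion A I hI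
  (IsLocalRing.eq_maximalIdeal (AdicCompletion.isMaximal_map_of_le I (maximalIdeal A)
    (le_maximalIdeal hI) (Ideal.fg_of_isNoetherianRing I))).symm

theorem isLocalHom_algebraMap_adicCompletion (hI : I ≠ ⊤) :
    haveI := isLocalRing_adicCompletion A I hI
    IsLocalHom (algebraMap A (AdicCompletion I A)) := by
  haveI := isLocalRing_adicCompletion A I hI
  refine ((IsLocalRing.local_hom_TFAE (algebraMap A (AdicCompletion I A))).out 0 2).mpr ?_
  rw [maximalIdeal_adicCompletion_eq_map A I hI]

theorem ringKrullDim_adicCompletion_eq (hI : I ≠ ⊤) :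
    ringKrullDim (AdicCompletion I A) = ringKrullDim A := by
  haveI := isLocalRing_adicCompletion A I hI
  haveI := isNoetherianRing_adicCompletion' A I
  haveI := isLocalHom_algebraMap_adicCompletion A I hI
  have h := Groth.Agent.H72.FlatCM.ringKrullDim_eq_add_of_flat (A := A) (B := AdicCompletion I A)
  have hmaxl : ((maximalIdeal A).map (algebraMap A (AdicCompletion I A))).IsMaximal :=
    AdicCompletion.isMaximal_map_of_le I (maximalIdeal A) (le_maximalIdeal hI)
      (Ideal.fg_of_isNoetherianRing I)
  have h0 : ringKrullDim (AdicCompletion I A ⧸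
      (maximalIdeal A).map (algebraMap A (AdicCompletion I A))) = 0 :=
    ringKrullDim_eq_zero_of_isField (Ideal.Quotient.maximal_ideal_iff_isField_quotient _ |>.mp hmaxl)
  rw [h, h0, add_zero]

/-- `Â ⊗ k` is the residue field of `Â` (general `I`) -/
noncomputable def adicCompletionTensorResidueEquiv (hI : I ≠ ⊤) :
    haveI := isLocalRing_adicCompletion A I hI
    (AdicCompletion I A ⊗[A] ResidueField A) ≃ₗ[AdicCompletion I A]
      ResidueField (AdicCompletion I A) :=
  haveI := isLocalRing_adicCompletion A I hI
  (Algebra.TensorProduct.quotIdealMapEquivTensorQuot (AdicCompletion I A)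
    (maximalIdeal A)).symm.toLinearEquiv.trans
    (Submodule.quotEquivOfEq _ _ (maximalIdeal_adicCompletion_eq_map A I hI).symm)

theorem isRegularLocalRing_adicCompletion_of_ne_top [IsRegularLocalRing A] (hI : I ≠ ⊤) :
    IsRegularLocalRing (AdicCompletion I A) := by
  haveI := isLocalRing_adicCompletion A I hI
  haveI := isNoetherianRing_adicCompletion' A I
  obtain ⟨d, hd, -⟩ := exists_ringKrullDim_eq A
  have h1 := hasProjectiveDimensionLT_residueField A d hd
  have h2 := hasProjectiveDimensionLT_baseChange A (AdicCompletion I A) d (ResidueField A) h1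
  have h3 : HasProjectiveDimensionLT (ModuleCat.of (AdicCompletion I A)
      (ResidueField (AdicCompletion I A))) (d + 1) :=
    hasProjectiveDimensionLT_of_iso (adicCompletionTensorResidueEquiv A I hI).toModuleIso (d + 1)
  exact isRegularLocalRing_of_hasProjectiveDimensionLT _ (d + 1) h3

theorem isRegularLocalRing_adicCompletion_iff_of_ne_top (hI : I ≠ ⊤) :
    IsRegularLocalRing A ↔ IsRegularLocalRing (AdicCompletion I A) := by
  constructor
  · intro h
    exact isRegularLocalRing_adicCompletion_of_ne_top A I hI
  · intro h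
    haveI := isLocalHom_algebraMap_adicCompletion A I hI
    exact isRegularLocalRing_of_flat A (AdicCompletion I A)

end
end Groth.Agent.Lead.RLR
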