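import Groth.Prelude.Def_Fitting
import Mathlib.LinearAlgebra.Matrix.Determinant.Basic
import Mathlib.LinearAlgebra.Pi
import Mathlib.Algebra.Module.Submodule.Ker
import Mathlib.LinearAlgebra.Span.Basic
import Mathlib.LinearAlgebra.Matrix.Block
import Mathlib.Data.Fintype.Sum
import Mathlib.Algebra.Module.FinitePresentation
import Mathlib.LinearAlgebra.Finsupp.LinearCombination
import Mathlib.LinearAlgebra.Matrix.Adjugate
import Mathlib.RingTheory.Support
import Mathlib.LinearAlgebra.TensorProduct.Vanishing
import Mathlib.LinearAlgebra.TensorProduct.Tower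
import Mathlib.RingTheory.TensorProduct.Basic

set_option autoImplicit false

namespace Groth.Agent.Lead

open Matrix

universe u v w

variable {R : Type u} [CommRing R]

/-- The module of relations among a finite tuple of elements of a module. -/
def relations (R : Type u) [CommRing R] {ι : Type w} [Fintype ι] {M : Type v} [AddCommGroup M] [Module R M] (x : ι → M) :
    Submodule R (ι → R) where
  carrier := {v | ∑ i, v i • x i = 0}
  add_mem' := by
    intro a b ha hb
    simp only [Set.mem_ofPred_eq, Pi.add_apply, add_smul, Finset.sum_add_distrib] at *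
    rw [ha, hb, add_zero]
  zero_mem' := by simp
  smul_mem' := by
    intro c a ha
    simp only [Set.mem_ofPred_eq, Pi.smul_apply, smul_eq_mul, mul_smul] at *
    rw [← Finset.smul_sum, ha, smul_zero]

theorem mem_relations {ι : Type w} [Fintype ι] {M : Type v} [AddCommGroup M] [Module R M]
    (x : ι → M) (v : ι → R) : v ∈ relations R x ↔ ∑ i, v i • x i = 0 := Iff.rfl

/-- The ideal generated by the `j × j` minors of matrices whose rows lie in `K`. -/
def minorIdeal {ι : Type w} (K : Submodule R (ι → R)) (j : ℕ) : Ideal R :=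
  Ideal.span {d | ∃ (z : Fin j → (ι → R)) (e : Fin j → ι), (∀ b, z b ∈ K) ∧
    d = (Matrix.of fun a b => z b (e a)).det}

theorem minor_mem_minorIdeal {ι : Type w} (K : Submodule R (ι → R)) {j : ℕ}
    (z : Fin j → (ι → R)) (e : Fin j → ι) (hz : ∀ b, z b ∈ K) :
    (Matrix.of fun a b => z b (e a)).det ∈ minorIdeal K j :=
  Ideal.subset_span ⟨z, e, hz, rfl⟩

theorem minorIdeal_zero {ι : Type w} (K : Submodule R (ι → R)) : minorIdeal K 0 = ⊤ := by
  rw [Ideal.eq_top_iff_one]
  have := minor_mem_minorIdeal K (j := 0) (fun b => b.elim0) (fun b => b.elim0) (fun b => b.elim0)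
  rwa [Matrix.det_isEmpty] at this

theorem minorIdeal_mono {ι : Type w} {K K' : Submodule R (ι → R)} (h : K ≤ K') (j : ℕ) :
    minorIdeal K j ≤ minorIdeal K' j := by
  apply Ideal.span_mono
  rintro d ⟨z, e, hz, rfl⟩
  exact ⟨z, e, fun b => h (hz b), rfl⟩

theorem minorIdeal_le_iff {ι : Type w} (K : Submodule R (ι → R)) (j : ℕ) (I : Ideal R) :
    minorIdeal K j ≤ I ↔ ∀ (z : Fin j → (ι → R)) (e : Fin j → ι), (∀ b, z b ∈ K) →
      (Matrix.of fun a b => z b (e a)).det ∈ I := by
  constructor
  · intro h z e hz
    exact h (minor_mem_minorIdeal K z e hz)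
  · intro h
    apply Ideal.span_le.mpr
    rintro d ⟨z, e, hz, rfl⟩
    exact h z e hz

/-- Multilinearity: to check that all minors with rows in `span S` lie in an ideal it suffices to
check minors with rows in `S`. -/
theorem det_mem_of_mem_span {ι : Type w} {j : ℕ} (S : Set (ι → R)) (I : Ideal R) (e : Fin j → ι)
    (h : ∀ z : Fin j → (ι → R), (∀ b, z b ∈ S) → (Matrix.of fun a b => z b (e a)).det ∈ I)
    (z : Fin j → (ι → R)) (hz : ∀ b, z b ∈ Submodule.span R S) :
    (Matrix.of fun a b => z b (e a)).det ∈ I := by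
  suffices H : ∀ (s : Finset (Fin j)) (z : Fin j → (ι → R)),
      (∀ b ∈ s, z b ∈ Submodule.span R S) → (∀ b, b ∉ s → z b ∈ S) →
      (Matrix.of fun a b => z b (e a)).det ∈ I from
    H Finset.univ z (fun b _ => hz b) (fun b hb => absurd (Finset.mem_univ b) hb)
  intro s
  induction s using Finset.induction_on with
  | empty =>
    intro z _ hz
    exact h z (fun b => hz b (Finset.notMem_empty b))
  | insert b0 s hb0 ih =>
    intro z hz1 hz2
    have hupd : ∀ t : ι → R, (Matrix.of fun a b => (Function.update z b0 t) b (e a)) =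
        (Matrix.of fun a b => z b (e a)).updateCol b0 (fun a => t (e a)) := by
      intro t
      ext a b
      by_cases hb : b = b0
      · subst hb; simp
      · simp [hb]
    have key : ∀ t ∈ Submodule.span R S,
        (Matrix.of fun a b => (Function.update z b0 t) b (e a)).det ∈ I := by
      intro t ht
      induction ht using Submodule.span_induction with
      | mem t ht =>
        apply ih
        · intro b hb
          have : b ≠ b0 := fun hbb => hb0 (hbb ▸ hb)
          rw [Function.update_of_ne this]
          exact hz1 b (Finset.mem_insert_of_mem hb)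
        · intro b hb
          by_cases hbb : b = b0
          · subst hbb; simpa using ht
          · rw [Function.update_of_ne hbb]
            exact hz2 b (by simp [hbb, hb])
      | zero =>
        rw [hupd]
        have : (fun a => (0 : ι → R) (e a)) = (0 : Fin j → R) := rfl
        rw [this]
        have h0 := Matrix.det_updateCol_smul (Matrix.of fun a b => z b (e a)) b0 0 (0 : Fin j → R)
        simp only [zero_smul, zero_mul] at h0
        rw [h0]; exact I.zero_mem
      | add t1 t2 _ _ h1 h2 =>
        rw [hupd] at h1 h2 ⊢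
        have : (fun a => (t1 + t2) (e a)) = (fun a => t1 (e a)) + (fun a => t2 (e a)) := rfl
        rw [this, Matrix.det_updateCol_add]
        exact I.add_mem h1 h2
      | smul c t _ h1 =>
        rw [hupd] at h1 ⊢
        have : (fun a => (c • t) (e a)) = c • (fun a => t (e a)) := rfl
        rw [this, Matrix.det_updateCol_smul]
        exact I.mul_mem_left c h1
    have := key (z b0) (hz1 b0 (Finset.mem_insert_self _ _))
    rwa [Function.update_eq_self] at this


/-- Laplace expansion: `(j+1)`-minors are combinations of `j`-minors. -/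
theorem minorIdeal_succ_le {ι : Type w} (K : Submodule R (ι → R)) (j : ℕ) :
    minorIdeal K (j + 1) ≤ minorIdeal K j := by
  rw [minorIdeal_le_iff]
  intro z e hz
  rw [Matrix.det_succ_column_zero]
  refine Submodule.sum_mem _ fun a _ => ?_
  refine Ideal.mul_mem_left _ _ ?_
  have : ((Matrix.of fun a b => z b (e a)).submatrix a.succAbove Fin.succ) =
      Matrix.of fun a' b' => (fun b' => z (Fin.succ b')) b' ((fun a' => e (a.succAbove a')) a') := by
    ext a' b'; rfl
  rw [this]
  exact minor_mem_minorIdeal K _ _ (fun b => hz _)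

theorem minorIdeal_add_le {ι : Type w} (K : Submodule R (ι → R)) (j m : ℕ) :
    minorIdeal K (j + m) ≤ minorIdeal K j := by
  induction m with
  | zero => exact le_rfl
  | succ m ih => exact (minorIdeal_succ_le K (j + m)).trans ih

theorem minorIdeal_antitone {ι : Type w} (K : Submodule R (ι → R)) {j j' : ℕ} (h : j ≤ j') :
    minorIdeal K j' ≤ minorIdeal K j := by
  obtain ⟨m, rfl⟩ := Nat.exists_eq_add_of_le h
  exact minorIdeal_add_le K j m


section snoc

variable {M : Type v} [AddCommGroup M] [Module R M]

theorem sum_snoc_smul {n : ℕ} (x : Fin n → M) (y0 : M) (v : Fin n → R) (w : R) :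
    ∑ i, (Fin.snoc v w : Fin (n + 1) → R) i • (Fin.snoc x y0 : Fin (n + 1) → M) i =
      ∑ i, v i • x i + w • y0 := by
  rw [Fin.sum_univ_castSucc]
  simp

theorem snoc_zero_mem_relations {n : ℕ} (x : Fin n → M) (y0 : M) {v : Fin n → R}
    (hv : v ∈ relations R x) :
    (Fin.snoc v 0 : Fin (n + 1) → R) ∈ relations R (Fin.snoc x y0 : Fin (n + 1) → M) := by
  rw [mem_relations, sum_snoc_smul, zero_smul, add_zero]
  exact hv

theorem snoc_neg_one_mem_relations {n : ℕ} (x : Fin n → M) (c : Fin n → R) :
    (Fin.snoc c (-1) : Fin (n + 1) → R) ∈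
      relations R (Fin.snoc x (∑ i, c i • x i) : Fin (n + 1) → M) := by
  rw [mem_relations, sum_snoc_smul]
  simp

/-- Key lemma for removing a redundant generator: a minor all of whose columns but one come from
relations of the shorter tuple lies in the smaller minor ideal. -/
theorem det_mem_minorIdeal_of_snoc {n j : ℕ} (K : Submodule R (Fin n → R))
    (z : Fin (j + 1) → (Fin (n + 1) → R)) (e' : Fin (j + 1) → Fin (n + 1)) (b0 : Fin (j + 1))
    (hz : ∀ b, b ≠ b0 → ∃ u ∈ K, z b = (Fin.snoc u 0 : Fin (n + 1) → R)) :
    (Matrix.of fun a b => z b (e' a)).det ∈ minorIdeal K j := by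
  rw [Matrix.det_succ_column _ b0]
  refine Submodule.sum_mem _ fun a _ => ?_
  refine Ideal.mul_mem_left _ _ ?_
  -- choose the relations u
  have hz' : ∀ b' : Fin j, ∃ u ∈ K, z (b0.succAbove b') = (Fin.snoc u 0 : Fin (n + 1) → R) :=
    fun b' => hz _ (Fin.succAbove_ne b0 b')
  choose u hu huz using hz'
  by_cases hlast : ∃ a' : Fin j, e' (a.succAbove a') = Fin.last n
  · obtain ⟨a', ha'⟩ := hlast
    have : ((Matrix.of fun a b => z b (e' a)).submatrix a.succAbove b0.succAbove).det = 0 := by
      apply Matrix.det_eq_zero_of_row_eq_zero a'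
      intro b'
      simp only [Matrix.submatrix_apply, Matrix.of_apply]
      rw [huz b', ha']
      simp
    rw [this]; exact Submodule.zero_mem _
  · push Not at hlast
    have hex : ∀ a' : Fin j, ∃ i : Fin n, Fin.castSucc i = e' (a.succAbove a') := fun a' =>
      Fin.exists_castSucc_eq.mpr (hlast a')
    choose ebar hebar using hex
    have : ((Matrix.of fun a b => z b (e' a)).submatrix a.succAbove b0.succAbove) =
        Matrix.of fun a' b' => u b' (ebar a') := by
      ext a' b'
      simp only [Matrix.submatrix_apply, Matrix.of_apply]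
      rw [huz b', ← hebar a']
      simp
    rw [this]
    exact minor_mem_minorIdeal K u ebar hu


/-- Adding a redundant generator: `(j+1)`-minors of the longer tuple lie in the ideal of `j`-minors. -/
theorem minorIdeal_snoc_le {n j : ℕ} (x : Fin n → M) (c : Fin n → R) :
    minorIdeal (relations R (Fin.snoc x (∑ i, c i • x i) : Fin (n + 1) → M)) (j + 1) ≤
      minorIdeal (relations R x) j := by
  classical
  set y0 : M := ∑ i, c i • x i with hy0
  set r0 : Fin (n + 1) → R := Fin.snoc c (-1) with hr0
  set S : Set (Fin (n + 1) → R) :=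
    {v | (∃ u ∈ relations R x, v = (Fin.snoc u 0 : Fin (n + 1) → R)) ∨ v = r0} with hS
  have hspan : ∀ z' ∈ relations R (Fin.snoc x y0 : Fin (n + 1) → M), z' ∈ Submodule.span R S := by
    intro z' hz'
    set w : R := z' (Fin.last n) with hw
    set u : Fin n → R := (fun i => z' (Fin.castSucc i)) + w • c with hu
    have hu_mem : u ∈ relations R x := by
      rw [mem_relations] at hz' ⊢
      rw [Fin.sum_univ_castSucc] at hz'
      simp only [Fin.snoc_castSucc, Fin.snoc_last] at hz'
      simp only [hu, Pi.add_apply, Pi.smul_apply, smul_eq_mul, add_smul, mul_smul,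
        Finset.sum_add_distrib, ← Finset.smul_sum]
      exact hz'
    have hdecomp : z' = (Fin.snoc u 0 : Fin (n + 1) → R) - w • r0 := by
      ext i
      refine Fin.lastCases ?_ (fun i => ?_) i
      · simp [hr0, hw]
      · simp [hr0, hu]
    rw [hdecomp]
    refine Submodule.sub_mem _ (Submodule.subset_span (Or.inl ⟨u, hu_mem, rfl⟩))
      (Submodule.smul_mem _ _ (Submodule.subset_span (Or.inr rfl)))
  rw [minorIdeal_le_iff]
  intro z e' hz
  refine det_mem_of_mem_span S _ e' ?_ z (fun b => hspan _ (hz b))
  intro z hzS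
  by_cases hall : ∀ b, ∃ u ∈ relations R x, z b = (Fin.snoc u 0 : Fin (n + 1) → R)
  · exact det_mem_minorIdeal_of_snoc _ z e' 0 (fun b _ => hall b)
  · push Not at hall
    obtain ⟨b0, hb0⟩ := hall
    have hb0r : z b0 = r0 := by
      rcases hzS b0 with ⟨u, hu, h⟩ | h
      · exact absurd h (hb0 u hu)
      · exact h
    by_cases hothers : ∀ b, b ≠ b0 → ∃ u ∈ relations R x, z b = (Fin.snoc u 0 : Fin (n + 1) → R)
    · exact det_mem_minorIdeal_of_snoc _ z e' b0 hothers
    · push Not at hothers
      obtain ⟨b1, hb1, hb1'⟩ := hothers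
      have hb1r : z b1 = r0 := by
        rcases hzS b1 with ⟨u, hu, h⟩ | h
        · exact absurd h (hb1' u hu)
        · exact h
      have : (Matrix.of fun a b => z b (e' a)).det = 0 := by
        apply Matrix.det_zero_of_column_eq hb1
        intro a
        simp only [Matrix.of_apply]
        rw [hb1r, hb0r]
      rw [this]; exact Submodule.zero_mem _

/-- Adding a redundant generator: `j`-minors of the shorter tuple are, up to sign, `(j+1)`-minors
of the longer tuple. -/
theorem minorIdeal_le_snoc {n j : ℕ} (x : Fin n → M) (c : Fin n → R) :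
    minorIdeal (relations R x) j ≤
      minorIdeal (relations R (Fin.snoc x (∑ i, c i • x i) : Fin (n + 1) → M)) (j + 1) := by
  rw [minorIdeal_le_iff]
  intro z e hz
  set y0 : M := ∑ i, c i • x i with hy0
  set r0 : Fin (n + 1) → R := Fin.snoc c (-1) with hr0
  set z' : Fin (j + 1) → (Fin (n + 1) → R) :=
    Fin.snoc (fun b => (Fin.snoc (z b) 0 : Fin (n + 1) → R)) r0 with hz'
  set e' : Fin (j + 1) → Fin (n + 1) := Fin.snoc (fun a => Fin.castSucc (e a)) (Fin.last n) with he'
  have hmem : (Matrix.of fun a b => z' b (e' a)).det ∈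
      minorIdeal (relations R (Fin.snoc x y0 : Fin (n + 1) → M)) (j + 1) := by
    apply minor_mem_minorIdeal
    intro b
    refine Fin.lastCases ?_ (fun b => ?_) b
    · simp only [hz', Fin.snoc_last]
      exact snoc_neg_one_mem_relations x c
    · simp only [hz', Fin.snoc_castSucc]
      exact snoc_zero_mem_relations x y0 (hz b)
  have hdet : (Matrix.of fun a b => z' b (e' a)).det = - (Matrix.of fun a b => z b (e a)).det := by
    rw [Matrix.det_succ_row _ (Fin.last j), Fin.sum_univ_castSucc]
    have h1 : ∀ b : Fin j, (Matrix.of fun a b => z' b (e' a)) (Fin.last j) (Fin.castSucc b) = 0 := by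
      intro b
      simp [hz', he']
    have h2 : (Matrix.of fun a b => z' b (e' a)) (Fin.last j) (Fin.last j) = -1 := by
      simp [hz', he', hr0]
    have h3 : ((Matrix.of fun a b => z' b (e' a)).submatrix (Fin.last j).succAbove
        (Fin.last j).succAbove) = Matrix.of fun a b => z b (e a) := by
      ext a b
      simp [hz', he', Fin.succAbove_last]
    simp only [h1, mul_zero, zero_mul, Finset.sum_const_zero, zero_add, h2, h3]
    rw [← two_mul, pow_mul]
    simp
  have : (Matrix.of fun a b => z b (e a)).det = - (Matrix.of fun a b => z' b (e' a)).det := by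
    rw [hdet, neg_neg]
  rw [this]
  exact Submodule.neg_mem _ hmem

theorem minorIdeal_snoc {n j : ℕ} (x : Fin n → M) (c : Fin n → R) :
    minorIdeal (relations R (Fin.snoc x (∑ i, c i • x i) : Fin (n + 1) → M)) (j + 1) =
      minorIdeal (relations R x) j :=
  le_antisymm (minorIdeal_snoc_le x c) (minorIdeal_le_snoc x c)


theorem span_range_snoc_eq_top {n : ℕ} (x : Fin n → M) (hx : Submodule.span R (Set.range x) = ⊤)
    (y0 : M) : Submodule.span R (Set.range (Fin.snoc x y0 : Fin (n + 1) → M)) = ⊤ := by
  rw [eq_top_iff, ← hx]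
  apply Submodule.span_mono
  rintro _ ⟨i, rfl⟩
  exact ⟨Fin.castSucc i, by simp⟩

theorem minorIdeal_snoc' {n j : ℕ} (x : Fin n → M) (hx : Submodule.span R (Set.range x) = ⊤)
    (y0 : M) :
    minorIdeal (relations R (Fin.snoc x y0 : Fin (n + 1) → M)) (j + 1) =
      minorIdeal (relations R x) j := by
  have hy0 : y0 ∈ Submodule.span R (Set.range x) := by rw [hx]; trivial
  obtain ⟨c, rfl⟩ := (Submodule.mem_span_range_iff_exists_fun R).mp hy0
  exact minorIdeal_snoc x c

theorem span_range_append_eq_top {n m : ℕ} (x : Fin n → M)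
    (hx : Submodule.span R (Set.range x) = ⊤) (y : Fin m → M) :
    Submodule.span R (Set.range (Fin.append x y)) = ⊤ := by
  rw [eq_top_iff, ← hx]
  apply Submodule.span_mono
  rintro _ ⟨i, rfl⟩
  exact ⟨Fin.castAdd m i, by simp⟩

theorem minorIdeal_append {n j : ℕ} (x : Fin n → M) (hx : Submodule.span R (Set.range x) = ⊤) :
    ∀ (m : ℕ) (y : Fin m → M),
      minorIdeal (relations R (Fin.append x y)) (j + m) = minorIdeal (relations R x) j := by
  intro m
  induction m with
  | zero =>
    intro y
    have : Fin.append x y = x := by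
      funext i
      exact Fin.append_left x y i
    rw [this]; rfl
  | succ m ih =>
    intro y
    have hy : y = Fin.snoc (Fin.init y) (y (Fin.last m)) := (Fin.snoc_init_self y).symm
    rw [hy, Fin.append_snoc]
    have := minorIdeal_snoc' (j := j + m) (Fin.append x (Fin.init y))
      (span_range_append_eq_top x hx _) (y (Fin.last m))
    rw [← ih (Fin.init y)]
    exact this

end snoc

section reindex

variable {M : Type v} [AddCommGroup M] [Module R M]

theorem minorIdeal_reindex_le {ι ι' : Type w} [Fintype ι] [Fintype ι'] (σ : ι' ≃ ι) (x : ι → M)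
    (j : ℕ) : minorIdeal (relations R (x ∘ σ)) j ≤ minorIdeal (relations R x) j := by
  rw [minorIdeal_le_iff]
  intro z e hz
  have : (Matrix.of fun a b => z b (e a)) =
      Matrix.of fun a b => (fun b => z b ∘ σ.symm) b ((fun a => σ (e a)) a) := by
    ext a b; simp
  rw [this]
  apply minor_mem_minorIdeal
  intro b
  have hb := hz b
  rw [mem_relations] at hb ⊢
  rw [← hb, ← Equiv.sum_comp σ]
  simp

theorem minorIdeal_reindex {ι ι' : Type w} [Fintype ι] [Fintype ι'] (σ : ι' ≃ ι) (x : ι → M)
    (j : ℕ) : minorIdeal (relations R (x ∘ σ)) j = minorIdeal (relations R x) j := by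
  apply le_antisymm (minorIdeal_reindex_le σ x j)
  have := minorIdeal_reindex_le (R := R) σ.symm (x ∘ σ) j
  have h2 : (x ∘ σ) ∘ σ.symm = x := by funext i; simp
  rwa [h2] at this

end reindex

section independence

variable {M : Type v} [AddCommGroup M] [Module R M]

/-- The `k`-th Fitting ideal computed from a fixed generating tuple. -/
def fitOf (R : Type u) [CommRing R] {M : Type v} [AddCommGroup M] [Module R M] {n : ℕ}
    (x : Fin n → M) (k : ℕ) : Ideal R :=
  minorIdeal (relations R x) (n - k)

theorem fitOf_append {n m : ℕ} (x : Fin n → M) (hx : Submodule.span R (Set.range x) = ⊤)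
    (y : Fin m → M) (k : ℕ) : fitOf R (Fin.append x y) k = fitOf R x k := by
  unfold fitOf
  by_cases hk : k ≤ n
  · have : n + m - k = (n - k) + m := by omega
    rw [this]
    exact minorIdeal_append x hx m y
  · push Not at hk
    have h0 : n - k = 0 := by omega
    rw [h0, minorIdeal_zero, eq_top_iff]
    have h1 : minorIdeal (relations R (Fin.append x y)) (0 + m) = ⊤ := by
      rw [minorIdeal_append x hx m y, minorIdeal_zero]
    rw [← h1]
    exact minorIdeal_antitone _ (by omega)

theorem append_comp_finAddFlip {α : Type*} {n m : ℕ} (x : Fin n → α) (y : Fin m → α) :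
    Fin.append y x = Fin.append x y ∘ (finAddFlip : Fin (m + n) ≃ Fin (n + m)) := by
  funext i
  refine Fin.addCases (fun i => ?_) (fun i => ?_) i
  · simp [finAddFlip_apply_castAdd]
  · simp [finAddFlip_apply_natAdd]

/-- The ideal of minors does not depend on the generating tuple. -/
theorem fitOf_eq_fitOf {n m : ℕ} (x : Fin n → M) (hx : Submodule.span R (Set.range x) = ⊤)
    (y : Fin m → M) (hy : Submodule.span R (Set.range y) = ⊤) (k : ℕ) :
    fitOf R x k = fitOf R y k := by
  rw [← fitOf_append x hx y k, ← fitOf_append y hy x k]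
  unfold fitOf
  rw [append_comp_finAddFlip x y, minorIdeal_reindex]
  congr 1
  omega

end independence


section laplace

/-- Laplace expansion along the free rows: a square matrix whose first `s` rows are obtained from
vectors of `K` (after a column selection `e`) has determinant in the ideal of `s`-minors of `K`. -/
theorem det_mem_minorIdeal_of_rows {ι : Type w} (K : Submodule R (ι → R)) (s : ℕ) :
    ∀ (n : ℕ) (_ : s ≤ n) (e : Fin n → ι) (b : Matrix (Fin n) (Fin n) R),
      (∀ i : Fin n, (i : ℕ) < s → ∃ z ∈ K, ∀ c, b i c = z (e c)) → b.det ∈ minorIdeal K s := by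
  intro n
  induction n with
  | zero =>
    intro hs e b _
    have : s = 0 := by omega
    subst this
    rw [minorIdeal_zero]; trivial
  | succ n ih =>
    intro hs e b h
    by_cases hsn : s = n + 1
    · subst hsn
      have h' : ∀ i : Fin (n + 1), ∃ z ∈ K, ∀ c, b i c = z (e c) := fun i => h i i.isLt
      choose z hz hb using h'
      have : b.det = (Matrix.of fun a b' => z b' (e a)).det := by
        rw [← Matrix.det_transpose]
        congr 1
        ext a b'
        simp [hb]
      rw [this]; exact minor_mem_minorIdeal K z e hz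
    · have hs' : s ≤ n := by omega
      rw [Matrix.det_succ_row b (Fin.last n)]
      refine Submodule.sum_mem _ fun c _ => Ideal.mul_mem_left _ _ ?_
      apply ih hs' (fun c' => e (c.succAbove c'))
      intro i hi
      obtain ⟨z, hz, hzb⟩ := h ((Fin.last n).succAbove i) (by simpa [Fin.succAbove_last] using hi)
      refine ⟨z, hz, fun c' => ?_⟩
      have := hzb (c.succAbove c')
      rw [Fin.succAbove_last] at this
      simpa using this

/-- Conversely every `s`-minor of vectors of `K ⊆ Rⁿ` is, up to sign, the determinant of an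
`n × n` matrix whose first `s` rows lie in `K`. -/
theorem minor_mem_span_det {n s : ℕ} (hs : s ≤ n) (K : Submodule R (Fin n → R))
    (z : Fin s → (Fin n → R)) (hz : ∀ b, z b ∈ K) (e : Fin s → Fin n) :
    (Matrix.of fun a b => z b (e a)).det ∈
      Ideal.span {d | ∃ a : Matrix (Fin n) (Fin n) R,
        (∀ i : Fin n, (i : ℕ) < s → a i ∈ K) ∧ d = a.det} := by
  classical
  by_cases hinj : Function.Injective e
  swap
  · rw [Function.Injective] at hinj
    push Not at hinj
    obtain ⟨a1, a2, h12, hne⟩ := hinj
    have : (Matrix.of fun a b => z b (e a)).det = 0 := by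
      apply Matrix.det_zero_of_row_eq hne
      funext b
      simp [h12]
    rw [this]; exact Submodule.zero_mem _
  -- extend `e` to a permutation of `Fin n`
  let f : Fin n → Fin n := fun i => if h : (i : ℕ) < s then e ⟨i, h⟩ else i
  let S : Finset (Fin n) := Finset.univ.filter fun i => (i : ℕ) < s
  have hfS : Set.InjOn f S := by
    intro i hi i' hi' hii
    simp only [S, Finset.coe_filter, Finset.mem_univ, true_and, Set.mem_ofPred_eq] at hi hi'
    simp only [f, hi, hi', dif_pos] at hii
    have := hinj hii
    exact Fin.ext (by simpa using congrArg Fin.val this)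
  obtain ⟨g, hg⟩ := Finset.exists_equiv_extend_of_card_eq (α := Fin n) (β := Fin n)
    (t := Finset.univ) (by simp) (s := S) (f := f) (Finset.subset_univ _) hfS
  let ε : Equiv.Perm (Fin n) := g.trans (Equiv.subtypeUnivEquiv (fun x => Finset.mem_univ x))
  have hε : ∀ (i : Fin n) (h : (i : ℕ) < s), ε i = e ⟨i, h⟩ := by
    intro i h
    have := hg i (by simp [S, h])
    simp only [ε, Equiv.trans_apply, Equiv.subtypeUnivEquiv_apply]
    rw [this]
    simp [f, h]
  -- the matrix
  let A : Matrix (Fin n) (Fin n) R := fun i c =>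
    if h : (i : ℕ) < s then z ⟨i, h⟩ c else (if c = ε i then 1 else 0)
  have hA : ∀ i : Fin n, (i : ℕ) < s → A i ∈ K := by
    intro i h
    have : A i = z ⟨i, h⟩ := by funext c; simp [A, h]
    rw [this]; exact hz _
  have hAmem : A.det ∈ Ideal.span {d | ∃ a : Matrix (Fin n) (Fin n) R,
      (∀ i : Fin n, (i : ℕ) < s → a i ∈ K) ∧ d = a.det} := Ideal.subset_span ⟨A, hA, rfl⟩
  -- permute the columns
  let A' : Matrix (Fin n) (Fin n) R := A.submatrix id ε
  have hA' : A'.det = Equiv.Perm.sign ε * A.det := Matrix.det_permute' ε A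
  have hblock : A'.det = (Matrix.toSquareBlockProp A' fun i => (i : ℕ) < s).det *
      (Matrix.toSquareBlockProp A' fun i => ¬ (i : ℕ) < s).det := by
    apply Matrix.twoBlockTriangular_det
    intro i hi j hj
    have hij : j ≠ i := by
      intro hji; subst hji; exact hi hj
    simp [A', A, hi, hij]
  have hone : (Matrix.toSquareBlockProp A' fun i => ¬ (i : ℕ) < s) = 1 := by
    ext i j
    have hi : ¬ ((i : Fin n) : ℕ) < s := i.2
    simp only [Matrix.toSquareBlockProp_def, Matrix.of_apply, A', A, Matrix.submatrix_apply, id_eq,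
      hi, dif_neg, not_false_eq_true, EmbeddingLike.apply_eq_iff_eq, Matrix.one_apply]
    by_cases hij : i = j
    · subst hij; simp
    · have : (j : Fin n) ≠ (i : Fin n) := fun h => hij (Subtype.ext h.symm)
      simp [hij, this]
  let φ : Fin s ≃ {i : Fin n // (i : ℕ) < s} :=
    { toFun := fun a => ⟨Fin.castLE hs a, by simp⟩
      invFun := fun i => ⟨i.1, i.2⟩
      left_inv := fun a => by simp
      right_inv := fun i => by simp }
  have hfirst : (Matrix.toSquareBlockProp A' fun i => (i : ℕ) < s).det =
      (Matrix.of fun a b => z b (e a)).det := by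
    rw [← Matrix.det_submatrix_equiv_self φ, ← Matrix.det_transpose]
    congr 1
    ext a b
    simp only [Matrix.transpose_apply, Matrix.submatrix_apply, Matrix.toSquareBlockProp_def,
      Matrix.of_apply, A', A, id_eq, φ, Equiv.coe_fn_mk]
    have hb : ((Fin.castLE hs b : Fin n) : ℕ) < s := by simp
    have ha : ((Fin.castLE hs a : Fin n) : ℕ) < s := by simp
    rw [dif_pos hb, hε _ ha]
    rfl
  rw [hone, Matrix.det_one, mul_one, hfirst] at hblock
  have hsign : (Matrix.of fun a b => z b (e a)).det = ((Equiv.Perm.sign ε : ℤˣ) : R) * A.det := by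
    rw [← hblock, hA']
  rw [hsign]
  exact Ideal.mul_mem_left _ _ hAmem

end laplace


section main

variable {M : Type v} [AddCommGroup M] [Module R M]

/-- **Independence of the generating tuple.** The Prelude's Fitting ideal `Fitt.ideal R M k` is the
ideal of `(n - k)`-minors of the relations among any generating `n`-tuple. -/
theorem fitt_ideal_eq_fitOf {n : ℕ} (x : Fin n → M) (hx : Submodule.span R (Set.range x) = ⊤)
    (k : ℕ) : Fitt.ideal R M k = fitOf R x k := by
  apply le_antisymm
  · unfold Fitt.ideal
    rw [Ideal.span_le]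
    rintro d ⟨n', x', a, hx', hrel, rfl⟩
    rw [fitOf_eq_fitOf x hx x' hx' k]
    unfold fitOf
    apply det_mem_minorIdeal_of_rows (relations R x') (n' - k) n' (Nat.sub_le _ _) id a
    intro i hi
    exact ⟨a i, (mem_relations x' (a i)).mpr (hrel i hi), fun c => rfl⟩
  · unfold fitOf
    rw [minorIdeal_le_iff]
    intro z e hz
    have := minor_mem_span_det (Nat.sub_le n k) (relations R x) z hz e
    refine Ideal.span_mono ?_ this
    rintro d ⟨a, ha, rfl⟩
    exact ⟨n, x, a, hx, fun i hi => (mem_relations x (a i)).mp (ha i hi), rfl⟩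

theorem fitt_ideal_eq_minorIdeal {n : ℕ} (x : Fin n → M)
    (hx : Submodule.span R (Set.range x) = ⊤) (k : ℕ) :
    Fitt.ideal R M k = minorIdeal (relations R x) (n - k) :=
  fitt_ideal_eq_fitOf x hx k

end main


section basic

variable {M : Type v} [AddCommGroup M] [Module R M]

theorem relations_eq_ker {ι : Type w} [Fintype ι] (x : ι → M) :
    relations R x = LinearMap.ker (Fintype.linearCombination R x) := by
  ext v
  rw [mem_relations, LinearMap.mem_ker, Fintype.linearCombination_apply]

theorem linearCombination_surjective {ι : Type w} [Fintype ι] (x : ι → M)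
    (hx : Submodule.span R (Set.range x) = ⊤) :
    Function.Surjective (Fintype.linearCombination R x) := by
  rw [← LinearMap.range_eq_top, Fintype.range_linearCombination, hx]

theorem relations_fg [Module.FinitePresentation R M] {ι : Type w} [Fintype ι] (x : ι → M)
    (hx : Submodule.span R (Set.range x) = ⊤) : (relations R x).FG := by
  rw [relations_eq_ker]
  exact Module.FinitePresentation.fg_ker _ (linearCombination_surjective x hx)

/-- Minors with rows in a spanning set generate the minor ideal. -/
theorem minorIdeal_span {ι : Type w} (T : Set (ι → R)) (j : ℕ) :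
    minorIdeal (Submodule.span R T) j =
      Ideal.span {d | ∃ (z : Fin j → (ι → R)) (e : Fin j → ι), (∀ b, z b ∈ T) ∧
        d = (Matrix.of fun a b => z b (e a)).det} := by
  apply le_antisymm
  · rw [minorIdeal_le_iff]
    intro z e hz
    refine det_mem_of_mem_span T _ e ?_ z hz
    intro z' hz'
    exact Ideal.subset_span ⟨z', e, hz', rfl⟩
  · apply Ideal.span_mono
    rintro d ⟨z, e, hz, rfl⟩
    exact ⟨z, e, fun b => Submodule.subset_span (hz b), rfl⟩

theorem minorIdeal_fg {ι : Type w} [Finite ι] (K : Submodule R (ι → R)) (hK : K.FG) (j : ℕ) :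
    (minorIdeal K j).FG := by
  obtain ⟨T, rfl⟩ := hK
  rw [minorIdeal_span]
  have hfin : Set.Finite {d : R | ∃ (z : Fin j → (ι → R)) (e : Fin j → ι),
      (∀ b, z b ∈ (T : Set (ι → R))) ∧ d = (Matrix.of fun a b => z b (e a)).det} := by
    have : {d : R | ∃ (z : Fin j → (ι → R)) (e : Fin j → ι),
        (∀ b, z b ∈ (T : Set (ι → R))) ∧ d = (Matrix.of fun a b => z b (e a)).det} =
        Set.range (fun p : (Fin j → T) × (Fin j → ι) =>
          (Matrix.of fun a b => (p.1 b : ι → R) (p.2 a)).det) := by
      ext d
      constructor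
      · rintro ⟨z, e, hz, rfl⟩
        exact ⟨(fun b => ⟨z b, hz b⟩, e), rfl⟩
      · rintro ⟨p, rfl⟩
        exact ⟨fun b => (p.1 b : ι → R), p.2, fun b => (p.1 b).2, rfl⟩
    rw [this]
    exact Set.finite_range _
  exact ⟨hfin.toFinset, by simp⟩

theorem relations_le_of_linearMap {M' : Type v} [AddCommGroup M'] [Module R M'] {ι : Type w}
    [Fintype ι] (f : M →ₗ[R] M') (x : ι → M) : relations R x ≤ relations R (f ∘ x) := by
  intro v hv
  rw [mem_relations] at hv ⊢
  have := congrArg f hv
  simpa [map_sum] using this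

theorem span_range_comp_eq_top {M' : Type v} [AddCommGroup M'] [Module R M'] {ι : Type w}
    (f : M →ₗ[R] M') (hf : Function.Surjective f) (x : ι → M)
    (hx : Submodule.span R (Set.range x) = ⊤) : Submodule.span R (Set.range (f ∘ x)) = ⊤ := by
  rw [Set.range_comp, ← Submodule.map_span, hx, Submodule.map_top, LinearMap.range_eq_top]
  exact hf

/-- Fitting ideals grow along surjections. -/
theorem fitt_ideal_le_of_surjective [Module.Finite R M] {M' : Type v} [AddCommGroup M']
    [Module R M'] (f : M →ₗ[R] M') (hf : Function.Surjective f) (k : ℕ) :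
    Fitt.ideal R M k ≤ Fitt.ideal R M' k := by
  obtain ⟨n, x, hx⟩ := Module.Finite.exists_fin (R := R) (M := M)
  rw [fitt_ideal_eq_minorIdeal x hx, fitt_ideal_eq_minorIdeal (f ∘ x) (span_range_comp_eq_top f hf x hx)]
  exact minorIdeal_mono (relations_le_of_linearMap f x) _

theorem fitt_ideal_eq_top_of_le {n : ℕ} (x : Fin n → M) (hx : Submodule.span R (Set.range x) = ⊤)
    {k : ℕ} (hk : n ≤ k) : Fitt.ideal R M k = ⊤ := by
  rw [fitt_ideal_eq_minorIdeal x hx, Nat.sub_eq_zero_of_le hk, minorIdeal_zero]

theorem fitt_ideal_fg [Module.FinitePresentation R M] (k : ℕ) : (Fitt.ideal R M k).FG := by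
  obtain ⟨n, x, hx⟩ := Module.Finite.exists_fin (R := R) (M := M)
  rw [fitt_ideal_eq_minorIdeal x hx]
  exact minorIdeal_fg _ (relations_fg x hx) _

theorem fitt_ideal_antitone [Module.Finite R M] {k k' : ℕ} (h : k ≤ k') :
    Fitt.ideal R M k ≤ Fitt.ideal R M k' := by
  obtain ⟨n, x, hx⟩ := Module.Finite.exists_fin (R := R) (M := M)
  rw [fitt_ideal_eq_minorIdeal x hx, fitt_ideal_eq_minorIdeal x hx]
  exact minorIdeal_antitone _ (by omega)

end basic


section annihilator

variable {M : Type v} [AddCommGroup M] [Module R M]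

/-- Cramer's rule: the determinant of a square matrix of relations kills every generator. -/
theorem det_smul_eq_zero_of_relations {n : ℕ} (x : Fin n → M) (a : Matrix (Fin n) (Fin n) R)
    (ha : ∀ i, ∑ j, a i j • x j = 0) (l : Fin n) : a.det • x l = 0 := by
  have h1 : ∑ i, (Matrix.adjugate a) l i • ∑ j, a i j • x j = 0 := by
    simp [ha]
  have h2 : ∑ i, (Matrix.adjugate a) l i • ∑ j, a i j • x j =
      ∑ j, (Matrix.adjugate a * a) l j • x j := by
    simp only [Finset.smul_sum, smul_smul, Matrix.mul_apply, Finset.sum_smul]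
    rw [Finset.sum_comm]
  rw [h2, Matrix.adjugate_mul] at h1
  simpa [Matrix.smul_apply, Matrix.one_apply, ite_smul, Finset.sum_ite_eq] using h1

theorem fitt_ideal_zero_le_annihilator : Fitt.ideal R M 0 ≤ Module.annihilator R M := by
  unfold Fitt.ideal
  rw [Ideal.span_le]
  rintro d ⟨n, x, a, hx, hrel, rfl⟩
  rw [SetLike.mem_coe, Module.mem_annihilator]
  have hrel' : ∀ i, ∑ j, a i j • x j = 0 := fun i => hrel i (by simp)
  intro m
  have hm : m ∈ Submodule.span R (Set.range x) := by rw [hx]; trivial
  induction hm using Submodule.span_induction with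
  | mem m hm =>
    obtain ⟨l, rfl⟩ := hm
    exact det_smul_eq_zero_of_relations x a hrel' l
  | zero => simp
  | add m1 m2 _ _ h1 h2 => rw [smul_add, h1, h2, add_zero]
  | smul c m _ h1 => rw [smul_comm, h1, smul_zero]

theorem pow_mem_fitt_ideal_zero {n : ℕ} (x : Fin n → M)
    (hx : Submodule.span R (Set.range x) = ⊤) {r : R} (hr : r ∈ Module.annihilator R M) :
    r ^ n ∈ Fitt.ideal R M 0 := by
  refine Ideal.subset_span ⟨n, x, Matrix.diagonal (fun _ => r), hx, ?_, ?_⟩
  · intro i _
    rw [Finset.sum_eq_single i]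
    · simp [Module.mem_annihilator.mp hr]
    · intro j _ hji
      simp [Matrix.diagonal_apply_ne _ (Ne.symm hji)]
    · simp
  · simp [Matrix.det_diagonal]

theorem zeroLocus_fitt_ideal_zero [Module.Finite R M] :
    PrimeSpectrum.zeroLocus (Fitt.ideal R M 0 : Set R) = Module.support R M := by
  obtain ⟨n, x, hx⟩ := Module.Finite.exists_fin (R := R) (M := M)
  ext p
  rw [Module.mem_support_iff_of_finite, PrimeSpectrum.mem_zeroLocus, SetLike.coe_subset_coe]
  constructor
  · intro h r hr
    exact p.2.mem_of_pow_mem n (h (pow_mem_fitt_ideal_zero x hx hr))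
  · intro h
    exact fitt_ideal_zero_le_annihilator.trans h

theorem fitt_ideal_zero_quotient (I : Ideal R) : Fitt.ideal R (R ⧸ I) 0 = I := by
  have hx : Submodule.span R (Set.range (fun _ : Fin 1 => (1 : R ⧸ I))) = ⊤ := by
    rw [eq_top_iff]
    rintro m -
    obtain ⟨r, rfl⟩ := Ideal.Quotient.mk_surjective m
    have : (Ideal.Quotient.mk I r : R ⧸ I) = r • (1 : R ⧸ I) := by
      rw [Algebra.smul_def, mul_one]; rfl
    rw [this]
    exact Submodule.smul_mem _ _ (Submodule.subset_span ⟨0, rfl⟩)
  rw [fitt_ideal_eq_minorIdeal _ hx]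
  have hrel : ∀ v : Fin 1 → R, v ∈ relations R (fun _ : Fin 1 => (1 : R ⧸ I)) ↔ v 0 ∈ I := by
    intro v
    rw [mem_relations]
    simp only [Finset.univ_unique, Fin.default_eq_zero, Finset.sum_singleton]
    rw [Algebra.smul_def, mul_one]
    exact Ideal.Quotient.eq_zero_iff_mem
  apply le_antisymm
  · rw [minorIdeal_le_iff]
    intro z e hz
    have := (hrel (z 0)).mp (hz 0)
    simp only [Nat.sub_zero, Matrix.det_unique, Fin.default_eq_zero, Matrix.of_apply]
    have he : e 0 = 0 := Subsingleton.elim _ _
    rw [he]; exact this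
  · intro r hr
    have := minor_mem_minorIdeal (relations R (fun _ : Fin 1 => (1 : R ⧸ I))) (j := 1)
      (fun _ _ => r) (fun _ => 0) (fun b => (hrel _).mpr hr)
    simpa using this

end annihilator


section baseChange

open TensorProduct

universe u'

variable {R' : Type u'} [CommRing R'] [Algebra R R'] {M : Type v} [AddCommGroup M] [Module R M]

theorem span_one_tmul_eq_top {ι : Type w} (x : ι → M) (hx : Submodule.span R (Set.range x) = ⊤) :
    Submodule.span R' (Set.range fun i => (1 : R') ⊗ₜ[R] x i) = ⊤ := by
  have := Submodule.baseChange_span (R := R) (A := R') (Set.range x)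
  rw [hx, Submodule.baseChange_top] at this
  rw [this]
  congr 1
  ext t
  constructor
  · rintro ⟨i, rfl⟩
    exact ⟨x i, ⟨i, rfl⟩, rfl⟩
  · rintro ⟨_, ⟨i, rfl⟩, rfl⟩
    exact ⟨i, rfl⟩

/-- Relations among the `1 ⊗ xᵢ` are spanned by the images of the relations among the `xᵢ`. -/
theorem relations_baseChange {n : ℕ} (x : Fin n → M) (hx : Submodule.span R (Set.range x) = ⊤) :
    relations R' (fun i => (1 : R') ⊗ₜ[R] x i) =
      Submodule.span R' {v' | ∃ v ∈ relations R x, v' = fun i => algebraMap R R' (v i)} := by
  apply le_antisymm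
  · intro v' hv'
    rw [mem_relations] at hv'
    have h1 : ∑ i, x i ⊗ₜ[R] v' i = (0 : M ⊗[R] R') := by
      have := congrArg (TensorProduct.comm R R' M) hv'
      simpa [TensorProduct.smul_tmul', map_sum] using this
    obtain ⟨k', a, y, hy, ha⟩ := TensorProduct.vanishesTrivially_of_sum_tmul_eq_zero R hx h1
    have : v' = ∑ j, y j • (fun i => algebraMap R R' (a i j)) := by
      funext i
      rw [hy i]
      simp [Algebra.smul_def, mul_comm]
    rw [this]
    refine Submodule.sum_mem _ fun j _ => Submodule.smul_mem _ _ (Submodule.subset_span ?_)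
    exact ⟨fun i => a i j, (mem_relations x _).mpr (ha j), rfl⟩
  · rw [Submodule.span_le]
    rintro _ ⟨v, hv, rfl⟩
    rw [SetLike.mem_coe, mem_relations]
    rw [mem_relations] at hv
    have : ∑ i, algebraMap R R' (v i) • ((1 : R') ⊗ₜ[R] x i) = (1 : R') ⊗ₜ[R] (∑ i, v i • x i) := by
      rw [TensorProduct.tmul_sum]
      refine Finset.sum_congr rfl fun i _ => ?_
      rw [TensorProduct.smul_tmul', TensorProduct.tmul_smul, TensorProduct.smul_tmul',
        Algebra.smul_def, Algebra.smul_def]
      simp
    rw [this, hv, TensorProduct.tmul_zero]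

theorem minorIdeal_map {ι : Type w} (K : Submodule R (ι → R)) (j : ℕ) :
    minorIdeal (Submodule.span R' {v' : ι → R' | ∃ v ∈ K, v' = fun i => algebraMap R R' (v i)}) j =
      (minorIdeal K j).map (algebraMap R R') := by
  rw [minorIdeal_span]
  unfold minorIdeal
  rw [Ideal.map_span]
  congr 1
  ext d
  constructor
  · rintro ⟨z', e, hz', rfl⟩
    choose z hz hzz using hz'
    refine ⟨(Matrix.of fun a b => z b (e a)).det, ⟨z, e, hz, rfl⟩, ?_⟩
    rw [RingHom.map_det]
    congr 1
    ext a b
    simp [hzz b]
  · rintro ⟨_, ⟨z, e, hz, rfl⟩, rfl⟩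
    refine ⟨fun b i => algebraMap R R' (z b i), e, fun b => ⟨z b, hz b, rfl⟩, ?_⟩
    rw [RingHom.map_det]
    congr 1

/-- Fitting ideals commute with base change. -/
theorem fitt_ideal_baseChange [Module.Finite R M] (k : ℕ) :
    Fitt.ideal R' (R' ⊗[R] M) k = (Fitt.ideal R M k).map (algebraMap R R') := by
  obtain ⟨n, x, hx⟩ := Module.Finite.exists_fin (R := R) (M := M)
  rw [fitt_ideal_eq_minorIdeal x hx,
    fitt_ideal_eq_minorIdeal (fun i => (1 : R') ⊗ₜ[R] x i) (span_one_tmul_eq_top x hx),
    relations_baseChange x hx, minorIdeal_map]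

end baseChange

end Groth.Agent.Lead
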