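import Mathlib
import Groth.Agent.S4458
import Groth.Agent.S4357
import Groth.Agent.S0026
import Groth.Agent.S0019
import Groth.Agent.H22.CompLift
import Groth.Agent.H71.QCoh.SupportProper
import Groth.Agent.H71.QCoh.ExactSections
import Groth.Agent.Lead.Coh.IdealMul
import Groth.Agent.H79.StructStalk
import Groth.Agent.H12.SubSum

/-!
Lead library: Gabriel's classification of Serre subcategories of `Coh(X)` by supports
(corollaries of the dévissage statement S4458).
-/

set_option autoImplicit false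
set_option linter.style.haveILetI false
universe u
open CategoryTheory Limits AlgebraicGeometry Opposite TopologicalSpace TensorProduct

namespace Groth.Agent.Lead.Gabriel

variable {X : Scheme.{u}}

/-- stalks of a pushforward along an inducing map -/
theorem mem_support_pushforward {Z : Scheme.{u}} (i : Z ⟶ X) (hi : Topology.IsInducing i)
    (N : Z.Modules) (z : Z) (hz : z ∈ CohB1.support N) :
    i z ∈ CohB1.support ((Scheme.Modules.pushforward i).obj N) := by
  intro hsub
  apply hz
  haveI := TopCat.Presheaf.stalkPushforward.stalkPushforward_iso_of_isInducing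
    (C := AddCommGrpCat.{u}) (f := i.base) hi N.presheaf z
  have e := asIso (TopCat.Presheaf.stalkPushforward AddCommGrpCat.{u} i.base N.presheaf z)
  haveI : Subsingleton ((i.base _* N.presheaf).stalk (i z)) := hsub
  exact e.symm.addCommGroupIsoToAddEquiv.toEquiv.subsingleton

section Alg

variable {A B : Type u} [CommRing A] [CommRing B] [Algebra A B] (M : Type u) [AddCommGroup M]
  [Module A M]

theorem exists_one_tmul_eq (hs : Function.Surjective (algebraMap A B)) (x : B ⊗[A] M) :
    ∃ m : M, (1 : B) ⊗ₜ[A] m = x := by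
  induction x using TensorProduct.induction_on with
  | zero => exact ⟨0, TensorProduct.tmul_zero _ _⟩
  | tmul b m =>
    obtain ⟨a, rfl⟩ := hs b
    refine ⟨a • m, ?_⟩
    rw [← TensorProduct.smul_tmul, Algebra.smul_def, mul_one]
  | add x y hx hy =>
    obtain ⟨m, rfl⟩ := hx
    obtain ⟨m', rfl⟩ := hy
    exact ⟨m + m', TensorProduct.tmul_add _ _ _⟩

end Alg

section Quot

open Scheme.Modules Groth.Agent.H44 Groth.Agent.Lead.IdealMul

variable (J : X.IdealSheafData) (F : X.Modules)

/-- the unit `F ⟶ i_* i^* F` of a closed immersion is surjective on sections over affine opens -/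
theorem unit_app_surjective [F.IsQuasicoherent] {U : X.Opens} (hU : IsAffineOpen U) :
    Function.Surjective ((η J F).app U) := by
  intro t
  have hW : IsAffineOpen (J.subschemeι ⁻¹ᵁ U) := hU.preimage J.subschemeι
  letI := (J.subschemeι.appLE U (J.subschemeι ⁻¹ᵁ U) le_rfl).hom.toAlgebra
  have halg : (algebraMap Γ(X, U) Γ(J.subscheme, J.subschemeι ⁻¹ᵁ U)) =
      (J.subschemeι.app U).hom := by
    change (J.subschemeι.appLE U (J.subschemeι ⁻¹ᵁ U) le_rfl).hom = _
    rw [← Scheme.Hom.app_eq_appLE]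
  have hE : ∀ m : Γ(F, U), pullbackSectionsEquiv J.subschemeι F hW hU le_rfl
      (OmegaSh.pullSect J.subschemeι F U m) =
      (1 : Γ(J.subscheme, J.subschemeι ⁻¹ᵁ U)) ⊗ₜ[Γ(X, U)] m := by
    intro m
    have := pullbackSectionsEquiv_pullSectLE J.subschemeι F hW hU le_rfl m
    rwa [pullSectLE_self] at this
  have hsurj : Function.Surjective (algebraMap Γ(X, U) Γ(J.subscheme, J.subschemeι ⁻¹ᵁ U)) := by
    rw [halg]; exact J.subschemeι_app_surjective ⟨U, hU⟩
  let t' : Γ((Scheme.Modules.pullback J.subschemeι).obj F, J.subschemeι ⁻¹ᵁ U) := t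
  obtain ⟨m, hm⟩ := exists_one_tmul_eq Γ(F, U) hsurj
    (pullbackSectionsEquiv J.subschemeι F hW hU le_rfl t')
  refine ⟨m, ?_⟩
  change OmegaSh.pullSect J.subschemeι F U m = t'
  apply (pullbackSectionsEquiv J.subschemeι F hW hU le_rfl).injective
  rw [hE m]
  exact hm

theorem epi_unit [F.IsQuasicoherent] : Epi (η J F) := by
  haveI : ((Scheme.Modules.pushforward J.subschemeι).obj
      ((Scheme.Modules.pullback J.subschemeι).obj F)).IsQuasicoherent :=
    Groth.Agent.H8.isQuasicoherent_pushforward_of_isAffineHom J.subschemeι _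
  refine Groth.Agent.H71.QCoh.epi_of_app_surjective_cover (η J F)
    (fun V : X.affineOpens => (V : X.Opens)) (fun x => ?_) (fun V => V.2)
    (fun V => unit_app_surjective J F V.2)
  obtain ⟨_, ⟨V, hV : IsAffineOpen V, rfl⟩, hxV, -⟩ :=
    X.isBasis_affineOpens.exists_subset_of_mem_open (Set.mem_univ x) isOpen_univ
  exact ⟨⟨V, hV⟩, hxV⟩

/-- a pushforward from the closed subscheme cut out by `J` is killed by `J` -/
theorem killedByIdeal_pushforward (N : J.subscheme.Modules) :
    ClSub.KilledByIdeal J ((Scheme.Modules.pushforward J.subschemeι).obj N) := by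
  intro U a ha m
  have h0 : (J.subschemeι.app U.1).hom a = 0 := by
    have : a ∈ RingHom.ker (J.subschemeι.app U.1).hom := by
      rw [J.ker_subschemeι_app U]; exact ha
    exact this
  change ((J.subschemeι.app U.1).hom a) • (show Γ(N, J.subschemeι ⁻¹ᵁ U.1) from m) = 0
  rw [h0, zero_smul]

/-- the quotient `F / I_Z F` (as `i_* i^* F`) with the properties needed for the dévissage -/
theorem exists_witness [IsNoetherian X] (F : X.Modules) (hF : Coh.IsCoh F) (Z : Set X)
    (hZ : IsClosed Z) :
    ∃ (G : X.Modules) (p : F ⟶ G), Epi p ∧ Coh.IsCoh G ∧ CohB1.support G ⊆ Z ∧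
      ClSub.KilledByIdeal (Scheme.IdealSheafData.vanishingIdeal ⟨Z, hZ⟩) G ∧
      Z ∩ CohB1.support F ⊆ CohB1.support G := by
  haveI : F.IsQuasicoherent := hF.1
  haveI : SheafOfModules.IsFiniteType (R := X.ringCatSheaf) F := hF.2
  let T : Closeds X := ⟨Z, hZ⟩
  let J : X.IdealSheafData := Scheme.IdealSheafData.vanishingIdeal T
  have hri : Set.range J.subschemeι = Z :=
    Groth.Agent.H22.CompLift.range_subschemeι_vanishingIdeal T
  have hN : Coh.IsCoh ((Scheme.Modules.pullback J.subschemeι).obj F) :=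
    ⟨inferInstance, inferInstance⟩
  refine ⟨(Scheme.Modules.pushforward J.subschemeι).obj
    ((Scheme.Modules.pullback J.subschemeι).obj F), η J F, epi_unit J F,
    Groth.Agent.S0019.result J.subschemeι _ hN, ?_, killedByIdeal_pushforward J _, ?_⟩
  · rw [← hri]
    exact Groth.Agent.H71.QCoh.support_subset_range_of_iso_pushforward J.subschemeι _ _
      (Iso.refl _)
  · rintro x ⟨hxZ, hxF⟩
    rw [← hri] at hxZ
    obtain ⟨z, rfl⟩ := hxZ
    refine mem_support_pushforward J.subschemeι
      J.subschemeι.isClosedEmbedding.isInducing _ z ?_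
    rw [Groth.Agent.S4357.result J.subschemeι F hF.2]
    exact hxF

end Quot

section Serre

open ZeroObject

/-- Serre classes on coherent modules -/
def SerreCoh (P : ObjectProperty X.Modules) : Prop :=
  ∀ S : ShortComplex X.Modules, S.ShortExact → Coh.IsCoh S.X₁ → Coh.IsCoh S.X₂ →
    Coh.IsCoh S.X₃ → (P S.X₂ ↔ P S.X₁ ∧ P S.X₃)

theorem serreCoh_support (T : Set X) :
    SerreCoh (X := X) (fun M => CohB1.support M ⊆ T) := by
  intro S hS _ _ _
  change CohB1.support S.X₂ ⊆ T ↔ CohB1.support S.X₁ ⊆ T ∧ CohB1.support S.X₃ ⊆ T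
  rw [Groth.Agent.H71.QCoh.support_eq_union_of_shortExact S hS, Set.union_subset_iff]

theorem shortExact_iso_zero {M N : X.Modules} (e : M ≅ N) :
    (ShortComplex.mk e.hom (0 : N ⟶ 0) comp_zero).ShortExact :=
  { exact := (ShortComplex.exact_iff_epi _ rfl).mpr (inferInstance : Epi e.hom)
    mono_f := (inferInstance : Mono e.hom)
    epi_g := (isZero_zero X.Modules).epi _ }

variable {P : ObjectProperty X.Modules}

theorem SerreCoh.zero (hP : SerreCoh P) {F : X.Modules} (hF : Coh.IsCoh F) (hPF : P F)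
    (M : X.Modules) (hM : IsZero M) : P M :=
  ((hP _ (Groth.Agent.H67.Dev.shortExact_zero_id (G := F) hM)
    (Groth.Agent.S0026.isCoh_zero M hM) hF hF).mp hPF).1

theorem SerreCoh.iso (hP : SerreCoh P) {M N : X.Modules} (e : M ≅ N) (hM : Coh.IsCoh M)
    (hPM : P M) : P N :=
  (hP _ (shortExact_iso_zero e) hM (Groth.Agent.S0026.isCoh_iso M N e hM)
    (Groth.Agent.S0026.isCoh_zero _ (isZero_zero X.Modules))).mpr
    ⟨hPM, hP.zero hM hPM _ (isZero_zero X.Modules)⟩

/-- Gabriel: a Serre class on coherent modules containing `F` contains every coherent module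
supported in `Supp F`. -/
theorem key [IsNoetherian X] (hP : SerreCoh P) (F : X.Modules) (hF : Coh.IsCoh F) (hPF : P F)
    (E : X.Modules) (hE : Coh.IsCoh E) (hs : CohB1.support E ⊆ CohB1.support F) : P E := by
  haveI : F.IsQuasicoherent := hF.1
  haveI : SheafOfModules.IsFiniteType (R := X.ringCatSheaf) F := hF.2
  let K' : ObjectProperty X.Modules := fun M => Coh.IsCoh M ∧ P M
  haveI : K'.IsClosedUnderIsomorphisms :=
    ⟨fun {M N} e h => ⟨Groth.Agent.S0026.isCoh_iso M N e h.1, hP.iso e h.1 h.2⟩⟩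
  refine (Groth.Agent.S4458.result X K'
    (fun M hM => ⟨Groth.Agent.S0026.isCoh_zero M hM, hP.zero hF hPF M hM⟩)
    (fun S hS c1 c2 c3 => ⟨fun _ h2 => ⟨c3, ((hP S hS c1 c2 c3).mp h2.2).2⟩,
      fun h1 h3 => ⟨c2, (hP S hS c1 c2 c3).mpr ⟨h1.2, h3.2⟩⟩,
      fun h2 _ => ⟨c1, ((hP S hS c1 c2 c3).mp h2.2).1⟩⟩)
    ?_ (CohB1.support F) (Groth.Agent.H71.QCoh.isClosed_support F) ?_ E hE hs).2
  · intro M N i r hir hM hN hKM
    haveI : Mono i := mono_of_mono_fac hir
    exact ⟨hN, ((hP _ (Groth.Agent.H67.Dev.shortExact_cokernel i) hN hM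
      (Groth.Agent.S0026.isCoh_cokernel N M i hN hM)).mp hKM.2).1⟩
  · intro Z hZ _ hZF y hy
    obtain ⟨G, p, hp, hG, hGs, hk, hsub⟩ := exists_witness F hF Z hZ
    haveI := hp
    have hS : (ShortComplex.mk (kernel.ι p) p (kernel.condition p)).ShortExact :=
      { exact := ShortComplex.exact_kernel p
        mono_f := (inferInstance : Mono (kernel.ι p))
        epi_g := hp }
    have hyZ : y ∈ Z := by rw [← hy]; exact subset_closure rfl
    exact ⟨G, hG, ⟨hG, ((hP _ hS (Groth.Agent.S0026.isCoh_kernel F G p hF hG) hF hG).mp hPF).2⟩,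
      hGs, hk, hsub ⟨hyZ, hZF hyZ⟩⟩

theorem exists_coh_support_empty (X : Scheme.{u}) :
    ∃ M : X.Modules, Coh.IsCoh M ∧ ∀ x, x ∉ CohB1.support M :=
  ⟨0, Groth.Agent.S0026.isCoh_zero _ (isZero_zero X.Modules),
    fun x => Groth.Agent.H67.Dev.notMem_support_of_isZero (isZero_zero X.Modules) x⟩

/-- the structure sheaf of the reduced closed subscheme on `Z`: coherent with support `Z` -/
theorem exists_coh_support_eq [IsNoetherian X] (Z : Closeds X) :
    ∃ F : X.Modules, Coh.IsCoh F ∧ CohB1.support F = (Z : Set X) := by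
  let J : X.IdealSheafData := Scheme.IdealSheafData.vanishingIdeal Z
  have hri : Set.range J.subschemeι = (Z : Set X) :=
    Groth.Agent.H22.CompLift.range_subschemeι_vanishingIdeal Z
  refine ⟨(Scheme.Modules.pushforward J.subschemeι).obj (Coh.structureModule J.subscheme),
    Groth.Agent.S0019.result J.subschemeι _ (Groth.Agent.S0026.isCoh_structureModule _), ?_⟩
  apply subset_antisymm
  · rw [← hri]
    exact Groth.Agent.H71.QCoh.support_subset_range_of_iso_pushforward J.subschemeι _ _
      (Iso.refl _)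
  · intro x hx
    rw [← hri] at hx
    obtain ⟨z, rfl⟩ := hx
    refine mem_support_pushforward J.subschemeι
      J.subschemeι.isClosedEmbedding.isInducing _ z ?_
    intro hsub
    haveI : Subsingleton ((Coh.structureModule J.subscheme).presheaf.stalk z) := hsub
    haveI : Subsingleton (J.subscheme.presheaf.stalk z) :=
      (Groth.Agent.H79.StructStalk.structStalkEquiv J.subscheme z).toEquiv.subsingleton
    exact not_subsingleton (J.subscheme.presheaf.stalk z) inferInstance

/-- a coherent module whose support is `Supp A ∪ Supp B`, lying in every Serre class containing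
`A` and `B` -/
theorem exists_coh_union [IsNoetherian X] (A B : X.Modules) (hA : Coh.IsCoh A)
    (hB : Coh.IsCoh B) :
    ∃ F : X.Modules, Coh.IsCoh F ∧ CohB1.support F = CohB1.support A ∪ CohB1.support B ∧
      ∀ Q : ObjectProperty X.Modules, SerreCoh Q → Q A → Q B → Q F := by
  have hS : (ShortComplex.mk (biprod.inl : A ⟶ A ⊞ B) biprod.snd biprod.inl_snd).ShortExact :=
    (ShortComplex.Splitting.ofHasBinaryBiproduct A B).shortExact
  haveI : A.IsQuasicoherent := hA.1
  haveI : B.IsQuasicoherent := hB.1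
  haveI : SheafOfModules.IsFiniteType (R := X.ringCatSheaf) A := hA.2
  haveI : SheafOfModules.IsFiniteType (R := X.ringCatSheaf) B := hB.2
  have hq : (A ⊞ B).IsQuasicoherent := Groth.Agent.H12.QCohAbelian.isQuasicoherent_biprod A B
  have hF : Coh.IsCoh (A ⊞ B) := by
    exact ⟨hq, Groth.Agent.H12.SubSum.isFiniteType_biprod A B hA.2 hB.2⟩
  exact ⟨A ⊞ B, hF, Groth.Agent.H71.QCoh.support_eq_union_of_shortExact _ hS,
    fun Q hQ hQA hQB => (hQ _ hS hA hF hB).mpr ⟨hQA, hQB⟩⟩

end Serre

end Groth.Agent.Lead.Gabriel
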