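import Mathlib

/-!
Lead helper: `x ^ p ∈ K` in characteristic `p` with `x` separable forces `x ∈ K`.
-/

set_option autoImplicit false

open Polynomial

namespace Groth.Agent.Lead

universe u v

/-- In characteristic `p`, a separable element whose `p`-th power lies in the base field lies in the
base field. (`B` any nontrivial `K`-algebra, not necessarily commutative.) -/
theorem mem_range_of_pow_char_mem_of_isSeparable
    (K : Type u) [Field K] (p : ℕ) [Fact p.Prime] [CharP K p]
    (B : Type v) [Ring B] [Nontrivial B] [Algebra K B] (x : B)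
    (hx : x ^ p ∈ (algebraMap K B).range) (hsep : IsSeparable K x) :
    x ∈ (algebraMap K B).range := by
  classical
  obtain ⟨a, ha⟩ := hx
  have hint : IsIntegral K x := hsep.isIntegral
  set q := minpoly K x with hq
  have hdvd : q ∣ X ^ p - C a := by
    apply minpoly.dvd
    simp [ha]
  have hqsep : q.Separable := hsep
  let Ω := AlgebraicClosure K
  have hsplit : (q.map (algebraMap K Ω)).Splits := IsAlgClosed.splits _
  have hnodup : (q.map (algebraMap K Ω)).roots.Nodup := nodup_roots hqsep.map
  have hroot : ∀ β ∈ (q.map (algebraMap K Ω)).roots, β ^ p = algebraMap K Ω a := by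
    intro β hβ
    have h1 : eval β (q.map (algebraMap K Ω)) = 0 := (mem_roots'.mp hβ).2
    have h2 : eval β ((X ^ p - C a : K[X]).map (algebraMap K Ω)) = 0 :=
      eval_eq_zero_of_dvd_of_eval_eq_zero (Polynomial.map_dvd _ hdvd) h1
    simpa [sub_eq_zero] using h2
  have : CharP Ω p := charP_of_injective_algebraMap (algebraMap K Ω).injective p
  have hall : ∀ β ∈ (q.map (algebraMap K Ω)).roots, ∀ γ ∈ (q.map (algebraMap K Ω)).roots, β = γ := by
    intro β hβ γ hγ
    have := (hroot β hβ).trans (hroot γ hγ).symm
    exact frobenius_inj Ω p this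
  have hcard : (q.map (algebraMap K Ω)).roots.card ≤ 1 := by
    rw [← Multiset.toFinset_card_of_nodup hnodup, Finset.card_le_one]
    intro β hβ γ hγ
    exact hall β (Multiset.mem_toFinset.mp hβ) γ (Multiset.mem_toFinset.mp hγ)
  have hdeg : q.natDegree ≤ 1 := by
    rw [splits_iff_card_roots] at hsplit
    rw [hsplit, natDegree_map] at hcard
    exact hcard
  have hpos : 0 < q.natDegree := minpoly.natDegree_pos hint
  have h1 : q.natDegree = 1 := le_antisymm hdeg hpos
  exact minpoly.natDegree_eq_one_iff.mp h1

end Groth.Agent.Lead
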