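import Mathlib
import Groth.Agent.H1.CSACentralizer2
import Groth.Agent.Lead.PInsep

/-!
Lead helper: a Galois subfield of degree `p` in a central division algebra of dimension `p ^ 2`
(any characteristic for the first part): a Skolem–Noether element `x` with `x ^ p ∈ K`, `x ∉ K`.
-/

set_option autoImplicit false

namespace Groth.Agent.Lead

universe u v w

/-- Let `A` be a central division `K`-algebra of dimension `p ^ 2`, `L/K` Galois of prime degree `p`
with an embedding `ι : L → A`, and `σ ≠ 1` in the Galois group. Then there is a unit `x` of `A` with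
`ι (σ b) = x * ι b * x⁻¹`, `x ^ p ∈ K` and `x ∉ K`. -/
theorem exists_unit_conj_pow_mem
    (K : Type u) [Field K] (p : ℕ) [Fact p.Prime]
    (A : Type v) [DivisionRing A] [Algebra K A] [Algebra.IsCentral K A] [FiniteDimensional K A]
    (hA : Module.finrank K A = p ^ 2) (L : Type w) [Field L] [Algebra K L] [IsGalois K L]
    (hL : Module.finrank K L = p) (ι : L →ₐ[K] A) (σ : L ≃ₐ[K] L) (hσ : σ ≠ 1) :
    ∃ x : Aˣ, (∀ b : L, ι (σ b) = (x : A) * ι b * ((x⁻¹ : Aˣ) : A)) ∧
      ((x : A) ^ p ∈ (algebraMap K A).range) ∧ (x : A) ∉ (algebraMap K A).range := by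
  classical
  have hp : p.Prime := Fact.out
  have : FiniteDimensional K L := Module.finite_of_finrank_pos (by rw [hL]; exact hp.pos)
  have hcard : Nat.card (L ≃ₐ[K] L) = p := by rw [IsGalois.card_aut_eq_finrank, hL]
  have hσp : σ ^ p = 1 := by rw [← hcard]; exact pow_card_eq_one'
  have hιinj : Function.Injective ι := ι.toRingHom.injective
  obtain ⟨x, hx⟩ := Groth.Agent.H1.skolem_noether (ι.comp σ.toAlgHom) ι
  have hx' : ∀ b : L, ι (σ b) = (x : A) * ι b * ((x⁻¹ : Aˣ) : A) := fun b => hx b
  -- x is not central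
  have hxK : (x : A) ∉ (algebraMap K A).range := by
    rintro ⟨a, ha⟩
    apply hσ
    ext b
    apply hιinj
    rw [hx' b, ← ha, Algebra.commutes, mul_assoc, ha, Units.mul_inv, mul_one]
    rfl
  -- iterate
  have hpow : ∀ (n : ℕ) (b : L), ι ((σ ^ n) b) = (x : A) ^ n * ι b * ((x⁻¹ : Aˣ) : A) ^ n := by
    intro n
    induction n with
    | zero => intro b; simp
    | succ n ih =>
      intro b
      rw [pow_succ', AlgEquiv.mul_apply, hx', ih, pow_succ', pow_succ]
      simp only [mul_assoc]
  have hcomm : ∀ b : L, (x : A) ^ p * ι b = ι b * (x : A) ^ p := by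
    intro b
    have h := hpow p b
    rw [hσp, AlgEquiv.one_apply] at h
    have h2 : ((x⁻¹ : Aˣ) : A) ^ p * (x : A) ^ p = 1 := by
      rw [← Units.val_pow_eq_pow_val, ← Units.val_pow_eq_pow_val, ← Units.val_mul, inv_pow,
        inv_mul_cancel, Units.val_one]
    calc (x : A) ^ p * ι b = ((x : A) ^ p * ι b) * (((x⁻¹ : Aˣ) : A) ^ p * (x : A) ^ p) := by
            rw [h2, mul_one]
      _ = ((x : A) ^ p * ι b * ((x⁻¹ : Aˣ) : A) ^ p) * (x : A) ^ p := by simp only [mul_assoc]
      _ = ι b * (x : A) ^ p := by rw [← h]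
  -- centralizer of the range of ι is the range of ι
  have hcent : (x : A) ^ p ∈ Subalgebra.centralizer K (Set.range ι) := by
    rw [Subalgebra.mem_centralizer_iff]
    rintro _ ⟨b, rfl⟩
    exact (hcomm b).symm
  have hdim := Groth.Agent.H1.finrank_mul_finrank_centralizer_range ι
  rw [hL, hA, sq] at hdim
  have hdimC : Module.finrank K (Subalgebra.centralizer K (Set.range ι)) = p :=
    Nat.eq_of_mul_eq_mul_left hp.pos hdim
  have hle : ι.range ≤ Subalgebra.centralizer K (Set.range ι) := by
    rintro _ ⟨b, rfl⟩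
    rw [Subalgebra.mem_centralizer_iff]
    rintro _ ⟨c, rfl⟩
    change ι c * ι b = ι b * ι c
    rw [← map_mul, ← map_mul, mul_comm]
  have hdimR : Module.finrank K ι.range = p := by
    rw [← hL]
    exact (LinearEquiv.finrank_eq (AlgEquiv.ofInjective ι hιinj).toLinearEquiv).symm
  have heq : Subalgebra.toSubmodule ι.range =
      Subalgebra.toSubmodule (Subalgebra.centralizer K (Set.range ι)) := by
    apply Submodule.eq_of_le_of_finrank_eq
    · exact hle
    · change Module.finrank K ι.range = Module.finrank K (Subalgebra.centralizer K (Set.range ι))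
      rw [hdimR, hdimC]
  have hmem : (x : A) ^ p ∈ ι.range := by
    have : (x : A) ^ p ∈ Subalgebra.toSubmodule ι.range := by rw [heq]; exact hcent
    exact this
  obtain ⟨c, hc⟩ := hmem
  replace hc : ι c = (x : A) ^ p := hc
  -- σ c = c
  have hσc : σ c = c := by
    apply hιinj
    rw [hx', hc]
    have : (x : A) * (x : A) ^ p = (x : A) ^ p * (x : A) := by rw [← pow_succ', ← pow_succ]
    rw [this, mul_assoc, Units.mul_inv, mul_one]
  -- c ∈ K
  have htop : Subgroup.zpowers σ = ⊤ := zpowers_eq_top_of_prime_card hcard hσ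
  have hfix : ∀ f : L ≃ₐ[K] L, f c = c := by
    intro f
    have hf : f ∈ MulAction.stabilizer (L ≃ₐ[K] L) c := by
      have hle : Subgroup.zpowers σ ≤ MulAction.stabilizer (L ≃ₐ[K] L) c := by
        rw [Subgroup.zpowers_le]
        exact hσc
      exact hle (htop ▸ Subgroup.mem_top f)
    exact hf
  obtain ⟨a, ha⟩ := (IsGalois.mem_range_algebraMap_iff_fixed c).mpr hfix
  refine ⟨x, hx', ⟨a, ?_⟩, hxK⟩
  rw [← hc, ← ha, AlgHom.commutes]

end Groth.Agent.Lead
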