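import Mathlib
import Groth.Agent.H1.CSACentralizer2
import Groth.Agent.Lead.PInsep
import Groth.Agent.Lead.CyclicSub

/-!
Lead helper: central division algebras of dimension `p ^ 2`: the simple subfield `K(x)`, realised
as `AdjoinRoot (minpoly K x)`, has degree `p` and is its own centralizer.
-/

set_option autoImplicit false

open Polynomial

namespace Groth.Agent.Lead

universe u v w

section emb

variable (K : Type u) [Field K] (A : Type v) [Ring A] [Algebra K A]

/-- the map `K[X]/(minpoly K x) → A`, `X ↦ x` (`A` not necessarily commutative). -/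
noncomputable def adjoinRootEmb (x : A) : AdjoinRoot (minpoly K x) →ₐ[K] A :=
  Ideal.Quotient.liftₐ (Ideal.span {minpoly K x}) (Polynomial.aeval x) (by
    intro a ha
    rw [Ideal.mem_span_singleton] at ha
    obtain ⟨c, rfl⟩ := ha
    simp)

theorem adjoinRootEmb_mk (x : A) (g : K[X]) :
    adjoinRootEmb K A x (AdjoinRoot.mk _ g) = aeval x g := rfl

theorem adjoinRootEmb_root (x : A) : adjoinRootEmb K A x (AdjoinRoot.root _) = x := by
  change adjoinRootEmb K A x (AdjoinRoot.mk _ X) = x
  rw [adjoinRootEmb_mk, aeval_X]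

end emb

section division

variable (K : Type u) [Field K] (p : ℕ) [Fact p.Prime]
  (A : Type v) [DivisionRing A] [Algebra K A] [Algebra.IsCentral K A] [FiniteDimensional K A]

omit [Algebra.IsCentral K A] in
theorem exists_notMem_range (hA : Module.finrank K A = p ^ 2) :
    ∃ x : A, x ∉ (algebraMap K A).range := by
  by_contra h
  push_neg at h
  have hp : p.Prime := Fact.out
  have hsurj : Function.Surjective (Algebra.linearMap K A) := fun x => h x
  have := LinearMap.finrank_le_finrank_of_surjective hsurj
  rw [hA, Module.finrank_self] at this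
  have : 2 ≤ p := hp.two_le
  nlinarith

/-- If `L` is a field of degree `p` over `K` embedded in `A` (central division of dimension `p ^ 2`),
the centralizer of its image is its image. -/
theorem centralizer_range_eq (hA : Module.finrank K A = p ^ 2) (L : Type w) [Field L] [Algebra K L]
    (hL : Module.finrank K L = p) (ι : L →ₐ[K] A) :
    Subalgebra.centralizer K (Set.range ι) = ι.range := by
  have hp : p.Prime := Fact.out
  have hιinj : Function.Injective ι := ι.toRingHom.injective
  have hdim := Groth.Agent.H1.finrank_mul_finrank_centralizer_range ι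
  rw [hL, hA, sq] at hdim
  have hdimC : Module.finrank K (Subalgebra.centralizer K (Set.range ι)) = p :=
    Nat.eq_of_mul_eq_mul_left hp.pos hdim
  have hle : ι.range ≤ Subalgebra.centralizer K (Set.range ι) := by
    rintro _ ⟨b, rfl⟩
    rw [Subalgebra.mem_centralizer_iff]
    rintro _ ⟨c, rfl⟩
    change ι c * ι b = ι b * ι c
    rw [← map_mul, ← map_mul, mul_comm]
  have hdimR : Module.finrank K ι.range = p := by
    rw [← hL]
    exact (LinearEquiv.finrank_eq (AlgEquiv.ofInjective ι hιinj).toLinearEquiv).symm
  have heq : Subalgebra.toSubmodule ι.range =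
      Subalgebra.toSubmodule (Subalgebra.centralizer K (Set.range ι)) := by
    apply Submodule.eq_of_le_of_finrank_eq
    · exact hle
    · change Module.finrank K ι.range = Module.finrank K (Subalgebra.centralizer K (Set.range ι))
      rw [hdimR, hdimC]
  exact (Subalgebra.toSubmodule_injective heq).symm

/-- the degree of a field embedded in `A` is `1` or `p`. -/
theorem finrank_eq_one_or_of_algHom (hA : Module.finrank K A = p ^ 2) (L : Type w) [Field L]
    [Algebra K L] (ι : L →ₐ[K] A) :
    Module.finrank K L = 1 ∨ Module.finrank K L = p := by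
  have hp : p.Prime := Fact.out
  have hιinj : Function.Injective ι := ι.toRingHom.injective
  have hdim := Groth.Agent.H1.finrank_mul_finrank_centralizer_range ι
  rw [hA] at hdim
  have hle : ι.range ≤ Subalgebra.centralizer K (Set.range ι) := by
    rintro _ ⟨b, rfl⟩
    rw [Subalgebra.mem_centralizer_iff]
    rintro _ ⟨c, rfl⟩
    change ι c * ι b = ι b * ι c
    rw [← map_mul, ← map_mul, mul_comm]
  have hdimR : Module.finrank K ι.range = Module.finrank K L :=
    (LinearEquiv.finrank_eq (AlgEquiv.ofInjective ι hιinj).toLinearEquiv).symm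
  have hle' : Module.finrank K L ≤ Module.finrank K (Subalgebra.centralizer K (Set.range ι)) := by
    rw [← hdimR]
    exact Submodule.finrank_mono (show Subalgebra.toSubmodule ι.range ≤
      Subalgebra.toSubmodule (Subalgebra.centralizer K (Set.range ι)) from hle)
  generalize Module.finrank K L = d at *
  generalize Module.finrank K (Subalgebra.centralizer K (Set.range ι)) = c at *
  have hd : d ∣ p ^ 2 := ⟨c, hdim.symm⟩
  obtain ⟨i, hi, rfl⟩ := (Nat.dvd_prime_pow hp).mp hd
  interval_cases i
  · left; simp
  · right; simp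
  · exfalso
    have hc : c = 1 := by
      have : p ^ 2 * c = p ^ 2 * 1 := by rw [hdim, mul_one]
      exact Nat.eq_of_mul_eq_mul_left (pow_pos hp.pos 2) this
    rw [hc] at hle'
    have : 2 ≤ p := hp.two_le
    nlinarith

end division

end Groth.Agent.Lead

namespace Groth.Agent.Lead

universe u v

section division2

variable (K : Type u) [Field K] (p : ℕ) [Fact p.Prime]
  (A : Type v) [DivisionRing A] [Algebra K A] [Algebra.IsCentral K A] [FiniteDimensional K A]

omit [Fact p.Prime] [Algebra.IsCentral K A] in
theorem irreducible_minpoly (x : A) : Irreducible (minpoly K x) :=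
  minpoly.irreducible (Algebra.IsIntegral.isIntegral x)

omit [Fact p.Prime] [Algebra.IsCentral K A] in
theorem finrank_adjoinRoot_minpoly (x : A) :
    Module.finrank K (AdjoinRoot (minpoly K x)) = (minpoly K x).natDegree := by
  have h0 : minpoly K x ≠ 0 := (irreducible_minpoly K A x).ne_zero
  rw [(AdjoinRoot.powerBasis h0).finrank, AdjoinRoot.powerBasis_dim]

theorem natDegree_minpoly_eq (hA : Module.finrank K A = p ^ 2) (x : A)
    (hx : x ∉ (algebraMap K A).range) : (minpoly K x).natDegree = p := by
  haveI : Fact (Irreducible (minpoly K x)) := ⟨irreducible_minpoly K A x⟩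
  rcases finrank_eq_one_or_of_algHom K p A hA (AdjoinRoot (minpoly K x)) (adjoinRootEmb K A x)
    with h | h
  · rw [finrank_adjoinRoot_minpoly] at h
    exact absurd (minpoly.natDegree_eq_one_iff.mp h) hx
  · rwa [finrank_adjoinRoot_minpoly] at h

/-- Galois case: if `minpoly K x` is separable and splits in `K(x)`, there is `u ∉ K` with
`u ^ p ∈ K`. -/
theorem exists_pow_mem_of_splits (hA : Module.finrank K A = p ^ 2) (x : A)
    (hx : x ∉ (algebraMap K A).range) (hsep : (minpoly K x).Separable)
    (hsplit : ((minpoly K x).map (algebraMap K (AdjoinRoot (minpoly K x)))).Splits) :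
    ∃ u : A, u ^ p ∈ (algebraMap K A).range ∧ u ∉ (algebraMap K A).range := by
  classical
  have hp : p.Prime := Fact.out
  haveI : Fact (Irreducible (minpoly K x)) := ⟨irreducible_minpoly K A x⟩
  have h0 : minpoly K x ≠ 0 := (irreducible_minpoly K A x).ne_zero
  have hL : Module.finrank K (AdjoinRoot (minpoly K x)) = p := by
    rw [finrank_adjoinRoot_minpoly, natDegree_minpoly_eq K p A hA x hx]
  haveI : (minpoly K x).IsSplittingField K (AdjoinRoot (minpoly K x)) := by
    refine ⟨hsplit, ?_⟩
    rw [eq_top_iff, ← AdjoinRoot.adjoinRoot_eq_top]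
    apply Algebra.adjoin_mono
    rintro _ rfl
    rw [Polynomial.mem_rootSet]
    refine ⟨h0, ?_⟩
    rw [AdjoinRoot.aeval_eq, AdjoinRoot.mk_self]
  haveI : IsGalois K (AdjoinRoot (minpoly K x)) := IsGalois.of_separable_splitting_field hsep
  have : FiniteDimensional K (AdjoinRoot (minpoly K x)) :=
    Module.finite_of_finrank_pos (by rw [hL]; exact hp.pos)
  have hcard : Nat.card (AdjoinRoot (minpoly K x) ≃ₐ[K] AdjoinRoot (minpoly K x)) = p := by
    rw [IsGalois.card_aut_eq_finrank, hL]
  have : Nontrivial (AdjoinRoot (minpoly K x) ≃ₐ[K] AdjoinRoot (minpoly K x)) := by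
    rw [← Finite.one_lt_card_iff_nontrivial, hcard]
    exact hp.one_lt
  obtain ⟨σ, hσ⟩ := exists_ne (1 : AdjoinRoot (minpoly K x) ≃ₐ[K] AdjoinRoot (minpoly K x))
  obtain ⟨u, -, hup, huK⟩ :=
    exists_unit_conj_pow_mem K p A hA (AdjoinRoot (minpoly K x)) hL (adjoinRootEmb K A x) σ hσ
  exact ⟨u, hup, huK⟩

omit [Fact p.Prime] [Algebra.IsCentral K A] [FiniteDimensional K A] in
theorem adjoinRootEmb_eq_aeval (x : A) (t : AdjoinRoot (minpoly K x)) :
    ∃ g : K[X], t = AdjoinRoot.mk _ g ∧ adjoinRootEmb K A x t = aeval x g := by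
  obtain ⟨g, rfl⟩ := AdjoinRoot.mk_surjective t
  exact ⟨g, rfl, rfl⟩

omit [Fact p.Prime] [Algebra.IsCentral K A] [FiniteDimensional K A] in
theorem commute_aeval_of_commute (x y : A) (h : x * y = y * x) (g : K[X]) :
    aeval x g * y = y * aeval x g := by
  have hle : Algebra.adjoin K {x} ≤ Subalgebra.centralizer K {y} := by
    apply Algebra.adjoin_le
    rintro _ rfl
    rw [SetLike.mem_coe, Subalgebra.mem_centralizer_iff]
    rintro _ rfl
    exact h.symm
  have hmem := hle (Polynomial.aeval_mem_adjoin_singleton K x (p := g))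
  rw [Subalgebra.mem_centralizer_iff] at hmem
  exact (hmem y rfl).symm

/-- the centralizer of `x ∉ K` is `K(x)`. -/
theorem exists_adjoinRootEmb_eq_of_commute (hA : Module.finrank K A = p ^ 2) (x : A)
    (hx : x ∉ (algebraMap K A).range) (y : A) (hy : x * y = y * x) :
    ∃ t : AdjoinRoot (minpoly K x), adjoinRootEmb K A x t = y := by
  haveI : Fact (Irreducible (minpoly K x)) := ⟨irreducible_minpoly K A x⟩
  have hL : Module.finrank K (AdjoinRoot (minpoly K x)) = p := by
    rw [finrank_adjoinRoot_minpoly, natDegree_minpoly_eq K p A hA x hx]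
  have hc := centralizer_range_eq K p A hA (AdjoinRoot (minpoly K x)) hL (adjoinRootEmb K A x)
  have hmem : y ∈ Subalgebra.centralizer K (Set.range (adjoinRootEmb K A x)) := by
    rw [Subalgebra.mem_centralizer_iff]
    rintro _ ⟨t, rfl⟩
    obtain ⟨g, -, hg⟩ := adjoinRootEmb_eq_aeval K A x t
    rw [hg]
    exact commute_aeval_of_commute K A x y hy g
  rw [hc] at hmem
  exact hmem

end division2

end Groth.Agent.Lead
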