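import Mathlib

/-!
Lead helper: Wedderburn's cubic computation in a division algebra.

If `x₁` and a conjugate `x' ≠ x₁` satisfy a cubic `X³ - a₁X² + a₂X - a₃` with central coefficients,
put `w = x' - x₁`, `x₂ = w x' w⁻¹`, `x₃ = a₁ - x₁ - x₂`, `z = x₁x₂ - x₂x₁`. Then `z x₁ = x₂ z`,
`z x₂ = x₃ z`, `z x₃ = x₁ z`, hence `z³` commutes with `x₁`.
-/

set_option autoImplicit false

namespace Groth.Agent.Lead.Wedderburn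

universe u v

variable {K : Type u} [Field K] {A : Type v} [DivisionRing A] [Algebra K A]

/-- conjugation by a unit as a `K`-algebra endomorphism -/
def conjAlgHom (u : Aˣ) : A →ₐ[K] A where
  toFun y := (u : A) * y * ((u⁻¹ : Aˣ) : A)
  map_one' := by simp
  map_mul' y y' := by
    simp only [mul_assoc]
    congr 2
    rw [← mul_assoc ((u⁻¹ : Aˣ) : A), Units.inv_mul, one_mul]
  map_zero' := by simp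
  map_add' y y' := by simp [mul_add, add_mul]
  commutes' r := by
    rw [← Algebra.commutes, mul_assoc, Units.mul_inv, mul_one]

theorem aeval_conj (u : Aˣ) (x : A) (f : Polynomial K) :
    Polynomial.aeval ((u : A) * x * ((u⁻¹ : Aˣ) : A)) f =
      (u : A) * Polynomial.aeval x f * ((u⁻¹ : Aˣ) : A) :=
  Polynomial.aeval_algHom_apply (conjAlgHom (K := K) u) x f

variable (a₁ a₂ a₃ : K) (x₁ x' : A)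

/-- the quadratic cofactor has the root `x₂ = w x' w⁻¹`. -/
theorem quad_root (x₂ : A)
    (h₁ : x₁ * (x₁ * x₁) - a₁ • (x₁ * x₁) + a₂ • x₁ - a₃ • (1 : A) = 0)
    (h' : x' * (x' * x') - a₁ • (x' * x') + a₂ • x' - a₃ • (1 : A) = 0)
    (hw : x' - x₁ ≠ 0) (hx₂w : x₂ * (x' - x₁) = (x' - x₁) * x') :
    x₂ * x₂ + (x₁ - a₁ • (1 : A)) * x₂ + (x₁ * x₁ - a₁ • x₁ + a₂ • (1 : A)) = 0 := by
  apply mul_right_cancel₀ hw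
  rw [zero_mul, add_mul, add_mul, mul_assoc, mul_assoc, hx₂w, ← mul_assoc x₂, hx₂w]
  have key : (x' - x₁) * x' * x' + (x₁ - a₁ • (1 : A)) * ((x' - x₁) * x') +
      (x₁ * x₁ - a₁ • x₁ + a₂ • (1 : A)) * (x' - x₁)
      = (x' * (x' * x') - a₁ • (x' * x') + a₂ • x' - a₃ • (1 : A)) -
        (x₁ * (x₁ * x₁) - a₁ • (x₁ * x₁) + a₂ • x₁ - a₃ • (1 : A)) := by
    simp only [sub_mul, mul_sub, add_mul, mul_add, smul_mul_assoc, mul_smul_comm, one_mul, mul_one,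
      mul_assoc]
    module
  rw [key, h₁, h', sub_zero]

variable (x₂ : A)

theorem x₃_mul_x₂
    (hq : x₂ * x₂ + (x₁ - a₁ • (1 : A)) * x₂ + (x₁ * x₁ - a₁ • x₁ + a₂ • (1 : A)) = 0) :
    (a₁ • (1 : A) - x₁ - x₂) * x₂ = x₁ * x₁ - a₁ • x₁ + a₂ • (1 : A) := by
  have h : (a₁ • (1 : A) - x₁ - x₂) * x₂ - (x₁ * x₁ - a₁ • x₁ + a₂ • (1 : A)) =
      -(x₂ * x₂ + (x₁ - a₁ • (1 : A)) * x₂ + (x₁ * x₁ - a₁ • x₁ + a₂ • (1 : A))) := by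
    simp only [sub_mul, mul_sub, add_mul, mul_add, smul_mul_assoc, mul_smul_comm, one_mul, mul_one,
      mul_assoc]
    module
  rw [hq, neg_zero, sub_eq_zero] at h
  exact h

theorem x₃_x₂_x₁
    (h₁ : x₁ * (x₁ * x₁) - a₁ • (x₁ * x₁) + a₂ • x₁ - a₃ • (1 : A) = 0)
    (hq : x₂ * x₂ + (x₁ - a₁ • (1 : A)) * x₂ + (x₁ * x₁ - a₁ • x₁ + a₂ • (1 : A)) = 0) :
    (a₁ • (1 : A) - x₁ - x₂) * x₂ * x₁ = a₃ • (1 : A) := by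
  rw [x₃_mul_x₂ a₁ a₂ x₁ x₂ hq]
  have h : (x₁ * x₁ - a₁ • x₁ + a₂ • (1 : A)) * x₁ - a₃ • (1 : A) =
      x₁ * (x₁ * x₁) - a₁ • (x₁ * x₁) + a₂ • x₁ - a₃ • (1 : A) := by
    simp only [sub_mul, mul_sub, add_mul, mul_add, smul_mul_assoc, mul_smul_comm, one_mul, mul_one,
      mul_assoc]
  rw [h₁, sub_eq_zero] at h
  exact h

theorem x₁_x₃_x₂
    (h₁ : x₁ * (x₁ * x₁) - a₁ • (x₁ * x₁) + a₂ • x₁ - a₃ • (1 : A) = 0)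
    (hq : x₂ * x₂ + (x₁ - a₁ • (1 : A)) * x₂ + (x₁ * x₁ - a₁ • x₁ + a₂ • (1 : A)) = 0) :
    x₁ * ((a₁ • (1 : A) - x₁ - x₂) * x₂) = a₃ • (1 : A) := by
  rw [x₃_mul_x₂ a₁ a₂ x₁ x₂ hq]
  have h : x₁ * (x₁ * x₁ - a₁ • x₁ + a₂ • (1 : A)) - a₃ • (1 : A) =
      x₁ * (x₁ * x₁) - a₁ • (x₁ * x₁) + a₂ • x₁ - a₃ • (1 : A) := by
    simp only [sub_mul, mul_sub, add_mul, mul_add, smul_mul_assoc, mul_smul_comm, one_mul, mul_one,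
      mul_assoc]
  rw [h₁, sub_eq_zero] at h
  exact h

theorem x₂_x₁_x₃
    (h₁ : x₁ * (x₁ * x₁) - a₁ • (x₁ * x₁) + a₂ • x₁ - a₃ • (1 : A) = 0)
    (hq : x₂ * x₂ + (x₁ - a₁ • (1 : A)) * x₂ + (x₁ * x₁ - a₁ • x₁ + a₂ • (1 : A)) = 0) :
    x₂ * x₁ * (a₁ • (1 : A) - x₁ - x₂) = a₃ • (1 : A) := by
  have h := x₃_x₂_x₁ a₁ a₂ a₃ x₁ x₂ h₁ hq
  by_cases h3 : a₁ • (1 : A) - x₁ - x₂ = 0
  · rw [h3] at h ⊢
    rw [zero_mul, zero_mul] at h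
    rw [mul_zero, h]
  · apply mul_left_cancel₀ h3
    rw [← mul_assoc, ← mul_assoc, h, smul_mul_assoc, one_mul, mul_smul_comm, mul_one]

/-- `z x₁ = x₂ z`, `z x₂ = x₃ z`, `z x₃ = x₁ z` for `z = x₁x₂ - x₂x₁`. -/
theorem z_x₁
    (h₁ : x₁ * (x₁ * x₁) - a₁ • (x₁ * x₁) + a₂ • x₁ - a₃ • (1 : A) = 0)
    (hq : x₂ * x₂ + (x₁ - a₁ • (1 : A)) * x₂ + (x₁ * x₁ - a₁ • x₁ + a₂ • (1 : A)) = 0) :
    (x₁ * x₂ - x₂ * x₁) * x₁ = x₂ * (x₁ * x₂ - x₂ * x₁) := by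
  have e : (x₁ * x₂ - x₂ * x₁) * x₁ - x₂ * (x₁ * x₂ - x₂ * x₁) =
      x₂ * x₁ * (a₁ • (1 : A) - x₁ - x₂) - (a₁ • (1 : A) - x₁ - x₂) * x₂ * x₁ := by
    simp only [sub_mul, mul_sub, add_mul, mul_add, smul_mul_assoc, mul_smul_comm, one_mul, mul_one,
      mul_assoc]
    module
  rw [x₂_x₁_x₃ a₁ a₂ a₃ x₁ x₂ h₁ hq, x₃_x₂_x₁ a₁ a₂ a₃ x₁ x₂ h₁ hq, sub_self, sub_eq_zero] at e
  exact e

theorem z_x₂
    (h₁ : x₁ * (x₁ * x₁) - a₁ • (x₁ * x₁) + a₂ • x₁ - a₃ • (1 : A) = 0)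
    (hq : x₂ * x₂ + (x₁ - a₁ • (1 : A)) * x₂ + (x₁ * x₁ - a₁ • x₁ + a₂ • (1 : A)) = 0) :
    (x₁ * x₂ - x₂ * x₁) * x₂ = (a₁ • (1 : A) - x₁ - x₂) * (x₁ * x₂ - x₂ * x₁) := by
  have e : (x₁ * x₂ - x₂ * x₁) * x₂ - (a₁ • (1 : A) - x₁ - x₂) * (x₁ * x₂ - x₂ * x₁) =
      (a₁ • (1 : A) - x₁ - x₂) * x₂ * x₁ - x₁ * ((a₁ • (1 : A) - x₁ - x₂) * x₂) := by
    simp only [sub_mul, mul_sub, add_mul, mul_add, smul_mul_assoc, mul_smul_comm, one_mul, mul_one,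
      mul_assoc]
    module
  rw [x₁_x₃_x₂ a₁ a₂ a₃ x₁ x₂ h₁ hq, x₃_x₂_x₁ a₁ a₂ a₃ x₁ x₂ h₁ hq, sub_self, sub_eq_zero] at e
  exact e

theorem z_x₃
    (h₁ : x₁ * (x₁ * x₁) - a₁ • (x₁ * x₁) + a₂ • x₁ - a₃ • (1 : A) = 0)
    (hq : x₂ * x₂ + (x₁ - a₁ • (1 : A)) * x₂ + (x₁ * x₁ - a₁ • x₁ + a₂ • (1 : A)) = 0) :
    (x₁ * x₂ - x₂ * x₁) * (a₁ • (1 : A) - x₁ - x₂) = x₁ * (x₁ * x₂ - x₂ * x₁) := by
  have e : (x₁ * x₂ - x₂ * x₁) * (a₁ • (1 : A) - x₁ - x₂) - x₁ * (x₁ * x₂ - x₂ * x₁) =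
      x₁ * ((a₁ • (1 : A) - x₁ - x₂) * x₂) - x₂ * x₁ * (a₁ • (1 : A) - x₁ - x₂) := by
    simp only [sub_mul, mul_sub, add_mul, mul_add, smul_mul_assoc, mul_smul_comm, one_mul, mul_one,
      mul_assoc]
    module
  rw [x₁_x₃_x₂ a₁ a₂ a₃ x₁ x₂ h₁ hq, x₂_x₁_x₃ a₁ a₂ a₃ x₁ x₂ h₁ hq, sub_self, sub_eq_zero] at e
  exact e

/-- `z³` commutes with `x₁`. -/
theorem z_pow_three_comm
    (h₁ : x₁ * (x₁ * x₁) - a₁ • (x₁ * x₁) + a₂ • x₁ - a₃ • (1 : A) = 0)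
    (hq : x₂ * x₂ + (x₁ - a₁ • (1 : A)) * x₂ + (x₁ * x₁ - a₁ • x₁ + a₂ • (1 : A)) = 0) :
    (x₁ * x₂ - x₂ * x₁) ^ 3 * x₁ = x₁ * (x₁ * x₂ - x₂ * x₁) ^ 3 := by
  have e1 := z_x₁ a₁ a₂ a₃ x₁ x₂ h₁ hq
  have e2 := z_x₂ a₁ a₂ a₃ x₁ x₂ h₁ hq
  have e3 := z_x₃ a₁ a₂ a₃ x₁ x₂ h₁ hq
  generalize x₁ * x₂ - x₂ * x₁ = z at *
  generalize a₁ • (1 : A) - x₁ - x₂ = x₃ at *
  calc z ^ 3 * x₁ = z * (z * (z * x₁)) := by rw [pow_succ, pow_two]; simp only [mul_assoc]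
    _ = z * ((z * x₂) * z) := by rw [e1, mul_assoc]
    _ = (z * x₃) * (z * z) := by rw [e2]; simp only [mul_assoc]
    _ = x₁ * z ^ 3 := by rw [e3, pow_succ, pow_two]; simp only [mul_assoc]

end Groth.Agent.Lead.Wedderburn
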