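import Mathlib
import Groth.Agent.Lead.DivAlgP
import Groth.Agent.Lead.WedderburnCubic

/-!
Lead helper: a central division algebra of dimension `9` in characteristic `3` (or dimension `4`
in characteristic `2`) contains an inseparable element.
-/

set_option autoImplicit false

open Polynomial

namespace Groth.Agent.Lead

universe u v

/-- a cubic over a field with two distinct roots splits -/
theorem splits_of_natDegree_three_of_two_roots {F : Type u} [Field F] (f : F[X])
    (hdeg : f.natDegree = 3) (r y : F) (hry : y ≠ r) (hr : f.eval r = 0) (hy : f.eval y = 0) :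
    f.Splits := by
  have hq : (f /ₘ (X - C r)).natDegree = 2 := by
    rw [natDegree_divByMonic f (monic_X_sub_C r), hdeg, natDegree_X_sub_C]
  have hmul : (X - C r) * (f /ₘ (X - C r)) = f := mul_divByMonic_eq_iff_isRoot.mpr hr
  have hyq : (f /ₘ (X - C r)).eval y = 0 := by
    have h := hy
    rw [← hmul, eval_mul, eval_sub, eval_X, eval_C] at h
    rcases mul_eq_zero.mp h with h | h
    · exact absurd (sub_eq_zero.mp h) hry
    · exact h
  rw [← hmul]
  exact (Splits.X_sub_C r).mul (Splits.of_natDegree_eq_two hq hyq)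

/-- evaluation of a monic cubic -/
theorem aeval_monic_cubic {K : Type u} [Field K] {A : Type v} [Ring A] [Algebra K A] (f : K[X])
    (hdeg : f.natDegree = 3) (hm : f.Monic) (y : A) :
    aeval y f = y * (y * y) - (-f.coeff 2) • (y * y) + f.coeff 1 • y - (-f.coeff 0) • (1 : A) := by
  have h3 : f.coeff 3 = 1 := by
    have := hm.coeff_natDegree
    rwa [hdeg] at this
  rw [aeval_eq_sum_range, hdeg]
  simp only [Finset.sum_range_succ, Finset.sum_range_zero, h3, zero_add, pow_zero, pow_one, one_smul,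
    neg_smul, sub_neg_eq_add]
  have e2 : y ^ 2 = y * y := pow_two y
  have e3 : y ^ 3 = y * (y * y) := by rw [pow_succ, pow_two, mul_assoc]
  rw [e2, e3]
  abel

section cubic

variable (K : Type u) [Field K] [CharP K 3]
  (A : Type v) [DivisionRing A] [Algebra K A] [Algebra.IsCentral K A] [FiniteDimensional K A]

theorem not_forall_isSeparable_of_finrank_nine (hA : Module.finrank K A = 3 ^ 2) :
    ¬ ∀ v : A, IsSeparable K v := by
  classical
  intro hall
  haveI : Fact (Nat.Prime 3) := ⟨Nat.prime_three⟩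
  -- an element outside `K`
  obtain ⟨x₁, hx₁⟩ := exists_notMem_range K 3 A hA
  have hint : ∀ y : A, IsIntegral K y := fun y => Algebra.IsIntegral.isIntegral y
  have hdeg : (minpoly K x₁).natDegree = 3 := natDegree_minpoly_eq K 3 A hA x₁ hx₁
  have hmonic : (minpoly K x₁).Monic := minpoly.monic (hint x₁)
  have hirr : Irreducible (minpoly K x₁) := irreducible_minpoly K A x₁
  haveI : Fact (Irreducible (minpoly K x₁)) := ⟨hirr⟩
  have hev := aeval_monic_cubic (A := A) (minpoly K x₁) hdeg hmonic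
  -- elements with `p`-th power in `K` lie in `K`
  have hins : ∀ u : A, u ^ 3 ∈ (algebraMap K A).range → u ∈ (algebraMap K A).range := fun u hu =>
    mem_range_of_pow_char_mem_of_isSeparable K 3 A u hu (hall u)
  by_cases hs : ((minpoly K x₁).map (algebraMap K (AdjoinRoot (minpoly K x₁)))).Splits
  · obtain ⟨u, hu3, huK⟩ := exists_pow_mem_of_splits K 3 A hA x₁ hx₁ (hall x₁) hs
    exact huK (hins u hu3)
  -- non-Galois case
  set a₁ : K := -(minpoly K x₁).coeff 2 with ha₁
  set a₂ : K := (minpoly K x₁).coeff 1 with ha₂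
  set a₃ : K := -(minpoly K x₁).coeff 0 with ha₃
  have h₁ : x₁ * (x₁ * x₁) - a₁ • (x₁ * x₁) + a₂ • x₁ - a₃ • (1 : A) = 0 := by
    rw [← hev x₁, minpoly.aeval]
  -- a non-commuting element
  have hcen : x₁ ∉ Subalgebra.center K A := by
    rw [Algebra.IsCentral.center_eq_bot]
    intro h
    exact hx₁ (Algebra.mem_bot.mp h)
  rw [Subalgebra.mem_center_iff] at hcen
  push_neg at hcen
  obtain ⟨y₀, hy₀⟩ := hcen
  have hy₀0 : y₀ ≠ 0 := by
    rintro rfl
    simp at hy₀
  let u₀ : Aˣ := Units.mk0 y₀ hy₀0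
  set x' : A := (u₀ : A) * x₁ * ((u₀⁻¹ : Aˣ) : A) with hx'def
  have hx'ne : x' - x₁ ≠ 0 := by
    intro h
    apply hy₀
    have h2 : x' * (u₀ : A) = x₁ * (u₀ : A) := by rw [sub_eq_zero.mp h]
    rw [hx'def, mul_assoc, Units.inv_mul, mul_one] at h2
    exact h2
  have h' : x' * (x' * x') - a₁ • (x' * x') + a₂ • x' - a₃ • (1 : A) = 0 := by
    rw [← hev x', hx'def, Wedderburn.aeval_conj, minpoly.aeval, mul_zero, zero_mul]
  let uw : Aˣ := Units.mk0 (x' - x₁) hx'ne
  set x₂ : A := (uw : A) * x' * ((uw⁻¹ : Aˣ) : A) with hx₂def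
  have hx₂w : x₂ * (x' - x₁) = (x' - x₁) * x' := by
    have : (x' - x₁) = (uw : A) := rfl
    rw [hx₂def, this, mul_assoc, Units.inv_mul, mul_one]
  have h₂ : aeval x₂ (minpoly K x₁) = 0 := by
    rw [hx₂def, Wedderburn.aeval_conj, hev x', h', mul_zero, zero_mul]
  have hq := Wedderburn.quad_root a₁ a₂ a₃ x₁ x' x₂ h₁ h' hx'ne hx₂w
  -- `x₂ ≠ x₁`
  have hx₂ne : x₂ ≠ x₁ := by
    intro h
    have hq' := hq
    rw [h] at hq'
    have e : x₁ * x₁ + (x₁ - a₁ • (1 : A)) * x₁ + (x₁ * x₁ - a₁ • x₁ + a₂ • (1 : A)) =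
        (3 : K) • (x₁ * x₁) + a₁ • x₁ + a₂ • (1 : A) - (3 : K) • (a₁ • x₁) := by
      simp only [sub_mul, smul_mul_assoc, one_mul]
      module
    have h3 : (3 : K) = 0 := by exact_mod_cast CharP.cast_eq_zero K 3
    rw [e, h3, zero_smul, zero_smul, zero_add, sub_zero] at hq'
    by_cases ha : a₁ = 0
    · rw [ha, zero_smul, zero_add] at hq'
      have ha2 : a₂ = 0 := by
        rcases smul_eq_zero.mp hq' with h | h
        · exact h
        · exact absurd h one_ne_zero
      have hx3 : x₁ ^ 3 = a₃ • (1 : A) := by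
        have h1' := h₁
        rw [ha, ha2, zero_smul, zero_smul, sub_zero, add_zero, sub_eq_zero] at h1'
        rw [pow_succ, pow_two, mul_assoc]
        exact h1'
      exact hx₁ (hins x₁ ⟨a₃, by rw [hx3, Algebra.algebraMap_eq_smul_one]⟩)
    · apply hx₁
      refine ⟨-(a₂ / a₁), ?_⟩
      have h4 : a₁ • x₁ = -(a₂ • (1 : A)) := eq_neg_of_add_eq_zero_left hq'
      have h5 : x₁ = a₁⁻¹ • (a₁ • x₁) := by rw [smul_smul, inv_mul_cancel₀ ha, one_smul]
      rw [Algebra.algebraMap_eq_smul_one, h5, h4, smul_neg, smul_smul, neg_smul, div_eq_inv_mul]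
  -- `x₂` does not commute with `x₁`
  have hinj : Function.Injective (adjoinRootEmb K A x₁) :=
    (adjoinRootEmb K A x₁).toRingHom.injective
  have hncomm : x₁ * x₂ ≠ x₂ * x₁ := by
    intro hc
    obtain ⟨t, ht⟩ := exists_adjoinRootEmb_eq_of_commute K 3 A hA x₁ hx₁ x₂ hc
    apply hs
    apply splits_of_natDegree_three_of_two_roots _ (by rw [natDegree_map, hdeg])
      (AdjoinRoot.root _) t
    · intro h
      apply hx₂ne
      rw [← ht, h, adjoinRootEmb_root]
    · rw [eval_map_algebraMap, AdjoinRoot.aeval_eq, AdjoinRoot.mk_self]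
    · rw [eval_map_algebraMap]
      apply hinj
      rw [map_zero, ← Polynomial.aeval_algHom_apply, ht, h₂]
  -- the element `z`
  have hz1 := Wedderburn.z_x₁ a₁ a₂ a₃ x₁ x₂ h₁ hq
  have hz3 := Wedderburn.z_pow_three_comm a₁ a₂ a₃ x₁ x₂ h₁ hq
  have hz0 : x₁ * x₂ - x₂ * x₁ ≠ 0 := sub_ne_zero.mpr hncomm
  generalize x₁ * x₂ - x₂ * x₁ = z at hz1 hz3 hz0
  have hzx : z * x₁ ≠ x₁ * z := by
    intro h
    rw [h] at hz1
    exact hx₂ne (mul_right_cancel₀ hz0 hz1).symm
  obtain ⟨t, ht⟩ := exists_adjoinRootEmb_eq_of_commute K 3 A hA x₁ hx₁ (z ^ 3) hz3.symm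
  have hL : Module.finrank K (AdjoinRoot (minpoly K x₁)) = 3 := by
    rw [finrank_adjoinRoot_minpoly, hdeg]
  have : FiniteDimensional K (AdjoinRoot (minpoly K x₁)) :=
    Module.finite_of_finrank_pos (by rw [hL]; norm_num)
  haveI : IsSimpleOrder (IntermediateField K (AdjoinRoot (minpoly K x₁))) :=
    IntermediateField.isSimpleOrder_of_finrank_prime K _ (by rw [hL]; exact Nat.prime_three)
  rcases eq_bot_or_eq_top (IntermediateField.adjoin K {t}) with hb | htop
  · have hmem : t ∈ (⊥ : IntermediateField K (AdjoinRoot (minpoly K x₁))) :=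
      hb ▸ IntermediateField.mem_adjoin_simple_self K t
    obtain ⟨a, ha⟩ := IntermediateField.mem_bot.mp hmem
    have hz3K : z ^ 3 ∈ (algebraMap K A).range := ⟨a, by
      rw [← ht, ← ha]
      exact ((adjoinRootEmb K A x₁).commutes a).symm⟩
    obtain ⟨b, hb'⟩ := hins z hz3K
    apply hzx
    rw [← hb']
    exact Algebra.commutes b x₁
  · have hroot : AdjoinRoot.root (minpoly K x₁) ∈ IntermediateField.adjoin K {t} :=
      htop ▸ IntermediateField.mem_top
    have hti : IsIntegral K t := Algebra.IsIntegral.isIntegral t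
    rw [← IntermediateField.mem_toSubalgebra,
      IntermediateField.adjoin_simple_toSubalgebra_of_isAlgebraic hti.isAlgebraic,
      Algebra.adjoin_singleton_eq_range_aeval] at hroot
    obtain ⟨g, hg⟩ := hroot
    have hx₁g : x₁ = aeval (z ^ 3) g := by
      rw [← adjoinRootEmb_root K A x₁, ← ht]
      have hg' : aeval t g = AdjoinRoot.root (minpoly K x₁) := hg
      rw [← hg']
      exact (Polynomial.aeval_algHom_apply (adjoinRootEmb K A x₁) t g).symm
    apply hzx
    have hcomm := commute_aeval_of_commute K A (z ^ 3) z (by rw [← pow_succ, ← pow_succ']) g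
    rw [← hx₁g] at hcomm
    exact hcomm.symm

end cubic

section quadratic

variable (K : Type u) [Field K] [CharP K 2]
  (A : Type v) [DivisionRing A] [Algebra K A] [Algebra.IsCentral K A] [FiniteDimensional K A]

theorem not_forall_isSeparable_of_finrank_four (hA : Module.finrank K A = 2 ^ 2) :
    ¬ ∀ v : A, IsSeparable K v := by
  classical
  intro hall
  haveI : Fact (Nat.Prime 2) := ⟨Nat.prime_two⟩
  obtain ⟨x₁, hx₁⟩ := exists_notMem_range K 2 A hA
  have hdeg : (minpoly K x₁).natDegree = 2 := natDegree_minpoly_eq K 2 A hA x₁ hx₁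
  haveI : Fact (Irreducible (minpoly K x₁)) := ⟨irreducible_minpoly K A x₁⟩
  have hs : ((minpoly K x₁).map (algebraMap K (AdjoinRoot (minpoly K x₁)))).Splits := by
    apply Splits.of_natDegree_eq_two (x := AdjoinRoot.root _) (by rw [natDegree_map, hdeg])
    rw [eval_map_algebraMap, AdjoinRoot.aeval_eq, AdjoinRoot.mk_self]
  obtain ⟨u, hu2, huK⟩ := exists_pow_mem_of_splits K 2 A hA x₁ hx₁ (hall x₁) hs
  exact huK (mem_range_of_pow_char_mem_of_isSeparable K 2 A u hu2 (hall u))

end quadratic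

end Groth.Agent.Lead
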