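import Mathlib
import Groth.Agent.H29.GlDim

/-!
Lead library: for a finite module `M` over a Noetherian ring `A` with `pd M = d` finite,
`Ext^d(M, A) ≠ 0`.
-/

set_option autoImplicit false

open CategoryTheory Abelian

namespace Groth.Agent.Lead.ExtRing

universe u

variable (A : Type u) [CommRing A]

/-- `Ext^d(M, A) = 0` implies `Ext^d(M, A^m) = 0` -/
theorem ext_pi_subsingleton (M : ModuleCat.{u} A) (d m : ℕ)
    (h : Subsingleton (Ext M (ModuleCat.of A A) d)) :
    Subsingleton (Ext M (ModuleCat.of A (Fin m → A)) d) := by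
  have key : ∀ z : Ext M (ModuleCat.of A (Fin m → A)) d, z = 0 := by
    intro z
    have hid : (𝟙 (ModuleCat.of A (Fin m → A))) =
        ∑ i : Fin m, (ModuleCat.ofHom (LinearMap.proj i : (Fin m → A) →ₗ[A] A)) ≫
          ModuleCat.ofHom (LinearMap.single A (fun _ : Fin m => A) i) := by
      apply ModuleCat.hom_ext
      rw [ModuleCat.hom_sum]
      apply LinearMap.ext
      intro v
      simp only [ModuleCat.hom_id, LinearMap.id_coe, id_eq, ModuleCat.hom_comp,
        ModuleCat.hom_ofHom, LinearMap.sum_apply, LinearMap.coe_comp,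
        Function.comp_apply, LinearMap.coe_proj, Function.eval, LinearMap.coe_single]
      exact (Finset.univ_sum_single v).symm
    rw [← Ext.comp_mk₀_id z, hid, Ext.mk₀_sum, Ext.comp_sum]
    apply Finset.sum_eq_zero
    intro i _
    rw [← Ext.mk₀_comp_mk₀, ← Ext.comp_assoc_of_second_deg_zero,
      Subsingleton.elim (z.comp (Ext.mk₀ (ModuleCat.ofHom
        (LinearMap.proj i : (Fin m → A) →ₗ[A] A))) (add_zero d)) 0, Ext.zero_comp]
  exact ⟨fun x y => by rw [key x, key y]⟩

variable [IsNoetherianRing A]

/-- if `pd M ≤ d` and `Ext^d(M, A) = 0` then `pd M < d` -/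
theorem hasProjectiveDimensionLT_of_ext_ring_subsingleton (M : Type u) [AddCommGroup M]
    [Module A M] [Module.Finite A M] (d : ℕ)
    (h1 : HasProjectiveDimensionLT (ModuleCat.of A M) (d + 1))
    (h2 : Subsingleton (Ext (ModuleCat.of A M) (ModuleCat.of A A) d)) :
    HasProjectiveDimensionLT (ModuleCat.of A M) d := by
  apply ModuleCat.hasProjectiveDimensionLT_of_forall_finite
  intro L hL
  obtain ⟨m, g, hg⟩ := Module.Finite.exists_fin' A L
  let K := LinearMap.ker g
  have hexact : Function.Exact K.subtype g := LinearMap.exact_subtype_ker_map g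
  have hinj : Function.Injective K.subtype := Subtype.val_injective
  have hS := Groth.Agent.H29.GlDimL.shortExact_of_exact K.subtype g hinj hg hexact
  have hF := ext_pi_subsingleton A (ModuleCat.of A M) d m h2
  have key : ∀ z : Ext (ModuleCat.of A M) L d, z = 0 := by
    intro z
    have hz : z.comp hS.extClass (rfl : d + 1 = d + 1) = 0 :=
      Ext.eq_zero_of_hasProjectiveDimensionLT _ (d + 1) le_rfl
    obtain ⟨x₂, hx₂⟩ := Ext.covariant_sequence_exact₃ _ hS z rfl hz
    rw [← hx₂, Subsingleton.elim x₂ 0, Ext.zero_comp]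
  exact ⟨fun x y => by rw [key x, key y]⟩

end Groth.Agent.Lead.ExtRing

namespace Groth.Agent.Lead.ExtRing

universe u

variable (A : Type u) [CommRing A] [IsNoetherianRing A]

/-- if `pd M` is finite and `Ext^j(M, A) = 0` for all `j > d`, then `pd M ≤ d` -/
theorem hasProjectiveDimensionLT_of_forall_ext_ring_subsingleton (M : Type u) [AddCommGroup M]
    [Module A M] [Module.Finite A M] (d : ℕ)
    (h2 : ∀ j, d < j → Subsingleton (Ext (ModuleCat.of A M) (ModuleCat.of A A) j)) :
    ∀ k : ℕ, HasProjectiveDimensionLT (ModuleCat.of A M) (d + k + 1) →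
      HasProjectiveDimensionLT (ModuleCat.of A M) (d + 1) := by
  intro k
  induction k with
  | zero => intro h; exact h
  | succ k ih =>
    intro h
    apply ih
    exact hasProjectiveDimensionLT_of_ext_ring_subsingleton A M (d + k + 1) h
      (h2 (d + k + 1) (by omega))

end Groth.Agent.Lead.ExtRing
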