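import Mathlib
import Groth.Agent.Lead.DivAlgP

/-!
Lead helper: Galois subfields of degree `p` of a central division algebra of dimension `p ^ 2`,
realised in the universe of the algebra.
-/

set_option autoImplicit false

open Polynomial

namespace Groth.Agent.Lead

universe u v

section

variable (K : Type u) [Field K] (p : ℕ) [Fact p.Prime]
  (A : Type v) [DivisionRing A] [Algebra K A] [Algebra.IsCentral K A] [FiniteDimensional K A]

theorem isGalois_adjoinRoot_of_splits (hA : Module.finrank K A = p ^ 2) (x : A)
    (hx : x ∉ (algebraMap K A).range) (hsep : (minpoly K x).Separable)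
    [Fact (Irreducible (minpoly K x))]
    (hsplit : ((minpoly K x).map (algebraMap K (AdjoinRoot (minpoly K x)))).Splits) :
    IsGalois K (AdjoinRoot (minpoly K x)) ∧ Module.finrank K (AdjoinRoot (minpoly K x)) = p := by
  have h0 : minpoly K x ≠ 0 := (irreducible_minpoly K A x).ne_zero
  have hL : Module.finrank K (AdjoinRoot (minpoly K x)) = p := by
    rw [finrank_adjoinRoot_minpoly, natDegree_minpoly_eq K p A hA x hx]
  haveI : (minpoly K x).IsSplittingField K (AdjoinRoot (minpoly K x)) := by
    refine ⟨hsplit, ?_⟩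
    rw [eq_top_iff, ← AdjoinRoot.adjoinRoot_eq_top]
    apply Algebra.adjoin_mono
    rintro _ rfl
    rw [Polynomial.mem_rootSet]
    refine ⟨h0, ?_⟩
    rw [AdjoinRoot.aeval_eq, AdjoinRoot.mk_self]
  exact ⟨IsGalois.of_separable_splitting_field hsep, hL⟩

/-- the Galois subfield in the universe of `A`. -/
theorem exists_galois_subfield_of_splits (hA : Module.finrank K A = p ^ 2) (x : A)
    (hx : x ∉ (algebraMap K A).range) (hsep : (minpoly K x).Separable)
    [Fact (Irreducible (minpoly K x))]
    (hsplit : ((minpoly K x).map (algebraMap K (AdjoinRoot (minpoly K x)))).Splits) :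
    ∃ (L : Type v) (_ : Field L) (_ : Algebra K L), IsGalois K L ∧ Module.finrank K L = p ∧
      Nonempty (L →ₐ[K] A) := by
  obtain ⟨hG, hL⟩ := isGalois_adjoinRoot_of_splits K p A hA x hx hsep hsplit
  have hinj : Function.Injective (adjoinRootEmb K A x) :=
    (adjoinRootEmb K A x).toRingHom.injective
  let e : ↥(Set.range (adjoinRootEmb K A x)) ≃ AdjoinRoot (minpoly K x) :=
    (Equiv.ofInjective _ hinj).symm
  letI : Field ↥(Set.range (adjoinRootEmb K A x)) := e.field
  letI : Algebra K ↥(Set.range (adjoinRootEmb K A x)) := e.algebra K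
  let E : ↥(Set.range (adjoinRootEmb K A x)) ≃ₐ[K] AdjoinRoot (minpoly K x) := e.algEquiv K
  refine ⟨↥(Set.range (adjoinRootEmb K A x)), inferInstance, inferInstance, ?_, ?_, ?_⟩
  · exact IsGalois.of_algEquiv E.symm
  · rw [← hL]
    exact LinearEquiv.finrank_eq E.toLinearEquiv
  · exact ⟨(adjoinRootEmb K A x).comp E.toAlgHom⟩

end

end Groth.Agent.Lead
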