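import Mathlib
import Groth.Agent.S2412
import Groth.Agent.Lead.Gabriel
import Groth.Agent.H17.K0.Basic
import Groth.Agent.H5.Stalk.Exact
import Groth.Agent.H79.StructStalk
import Groth.Prelude.Def_ChowK

/-!
Lead library: dévissage for `K₀` of coherent modules (generation by modules of generic length one),
and basic facts on the structure sheaf of the reduced closure of a point.
-/

set_option autoImplicit false
set_option linter.style.haveILetI false
universe u
open CategoryTheory CategoryTheory.Limits AlgebraicGeometry Opposite TopologicalSpace ZeroObject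

namespace Groth.Agent.Lead.K0Dev

variable {X : Scheme.{u}}

/-- for an epimorphism `p : F ⟶ G` with `F_y` of length one and `G_y ≠ 0`, the stalk `G_y` has
length one and the kernel of `p` vanishes at `y` -/
theorem stalk_facts {F G : X.Modules} (p : F ⟶ G) [Epi p] (y : X)
    (hlen : Module.length (X.presheaf.stalk y) (F.presheaf.stalk y) = 1)
    (hy : y ∈ CohB1.support G) :
    Module.length (X.presheaf.stalk y) (G.presheaf.stalk y) = 1 ∧
      y ∉ CohB1.support (kernel p) := by
  have hS : (ShortComplex.mk (kernel.ι p) p (kernel.condition p)).ShortExact :=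
    { exact := ShortComplex.exact_kernel p
      mono_f := (inferInstance : Mono (kernel.ι p))
      epi_g := (inferInstance : Epi p) }
  have h := Groth.Agent.H5.Stalk.stalkFunctor_map_shortExact y _ hS
  have hinj : Function.Injective ((Groth.Agent.H5.Stalk.stalkFunctor y).map (kernel.ι p)).hom :=
    (ModuleCat.mono_iff_injective _).mp h.mono_f
  have hsurj : Function.Surjective ((Groth.Agent.H5.Stalk.stalkFunctor y).map p).hom :=
    (ModuleCat.epi_iff_surjective _).mp h.epi_g
  have hex : Function.Exact ((Groth.Agent.H5.Stalk.stalkFunctor y).map (kernel.ι p)).hom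
      ((Groth.Agent.H5.Stalk.stalkFunctor y).map p).hom :=
    (ShortComplex.ShortExact.moduleCat_exact_iff_function_exact _).mp h.exact
  have hadd := Module.length_eq_add_of_exact _ _ hinj hsurj hex
  have hG0 : Module.length (X.presheaf.stalk y) (G.presheaf.stalk y) ≠ 0 := by
    intro h0
    exact hy (Module.length_eq_zero_iff.mp h0)
  have hadd' : (1 : ℕ∞) =
      Module.length (X.presheaf.stalk y) ((kernel p).presheaf.stalk y) +
        Module.length (X.presheaf.stalk y) (G.presheaf.stalk y) := by
    rw [← hlen]; exact hadd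
  have hK : Module.length (X.presheaf.stalk y) ((kernel p).presheaf.stalk y) = 0 ↔
      Subsingleton ((kernel p).presheaf.stalk y) := Module.length_eq_zero_iff
  generalize Module.length (X.presheaf.stalk y) ((kernel p).presheaf.stalk y) = a at hadd' hK
  generalize Module.length (X.presheaf.stalk y) (G.presheaf.stalk y) = b at hadd' hG0 ⊢
  have hb : 1 ≤ b := Order.one_le_iff_pos.mpr (pos_iff_ne_zero.mpr hG0)
  have ha : a = 0 := by
    have h1 : a + 1 ≤ 0 + 1 := by
      rw [zero_add]
      calc a + 1 ≤ a + b := add_le_add_right hb a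
        _ = 1 := hadd'.symm
    exact le_antisymm ((ENat.add_le_add_iff_right (by simp)).mp h1) zero_le
  rw [ha, zero_add] at hadd'
  exact ⟨hadd'.symm, fun hmem => hmem (hK.mp ha)⟩

/-- Dévissage for `K₀`: let `P` be a class of coherent modules which is a Serre class on coherent
modules and contains the zero modules, `H` a subgroup of `K₀(P)` and `T` a closed subset such that
for every irreducible closed `Z ⊆ T` with generic point `y` there is a module in `P` with class in
`H`, supported in `Z`, whose stalk at `y` has length one.  Then the class of every module in `P`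
supported in `T` lies in `H`. -/
theorem clSub_mem [IsNoetherian X] (P : ObjectProperty X.Modules)
    (hPcoh : ∀ M : X.Modules, P M → Coh.IsCoh M)
    (hP0 : ∀ M : X.Modules, IsZero M → P M)
    (hPser : ∀ S : ShortComplex X.Modules, S.ShortExact → Coh.IsCoh S.X₁ → Coh.IsCoh S.X₂ →
      Coh.IsCoh S.X₃ → (P S.X₂ ↔ P S.X₁ ∧ P S.X₃))
    (H : AddSubgroup (KZero.K0sub P)) :
    ∀ T : Closeds X,
      (∀ (Z : Set X), IsClosed Z → IsIrreducible Z → Z ⊆ (T : Set X) → ∀ y : X,
        closure ({y} : Set X) = Z → ∃ F : X.Modules, P F ∧ KZero.clSub P F ∈ H ∧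
          CohB1.support F ⊆ Z ∧ Module.length (X.presheaf.stalk y) (F.presheaf.stalk y) = 1) →
      ∀ G : X.Modules, P G → CohB1.support G ⊆ (T : Set X) → KZero.clSub P G ∈ H := by
  classical
  have hcl0 : ∀ M : X.Modules, IsZero M → KZero.clSub P M = 0 := by
    intro M hM
    have hS : (ShortComplex.mk (0 : M ⟶ M) (𝟙 M) zero_comp).ShortExact :=
      Groth.Agent.H67.Dev.shortExact_zero_id hM
    have := Groth.Agent.H17.K0.clSub_shortExact P _ hS (hP0 M hM) (hP0 M hM) (hP0 M hM)
    exact (add_eq_right.mp this.symm)
  intro T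
  induction T using WellFoundedLT.induction with
  | ind T IH =>
    intro hgen G hPG hGs
    let K' : ObjectProperty X.Modules := fun M => P M ∧ KZero.clSub P M ∈ H
    haveI : K'.IsClosedUnderIsomorphisms := ⟨by
      intro M N e hM
      have hS := Groth.Agent.Lead.Gabriel.shortExact_iso_zero e
      have cM := hPcoh M hM.1
      have cN := Groth.Agent.S0026.isCoh_iso M N e cM
      have c0 := Groth.Agent.S0026.isCoh_zero (0 : X.Modules) (isZero_zero _)
      have hPN : P N := (hPser _ hS cM cN c0).mpr ⟨hM.1, hP0 _ (isZero_zero _)⟩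
      refine ⟨hPN, ?_⟩
      have h1 := Groth.Agent.H17.K0.clSub_shortExact P _ hS hM.1 hPN (hP0 _ (isZero_zero _))
      rw [hcl0 _ (isZero_zero _), add_zero] at h1
      rw [h1]
      exact hM.2⟩
    refine (Groth.Agent.S2412.result X K'
      (fun M hM => ⟨hP0 M hM, by rw [hcl0 M hM]; exact H.zero_mem⟩)
      ?_ (T : Set X) T.isClosed ?_ G (hPcoh G hPG) hGs).2
    · intro S hS c1 c2 c3
      have hiff := hPser S hS c1 c2 c3
      refine ⟨fun h1 h2 => ?_, fun h1 h3 => ?_, fun h2 h3 => ?_⟩
      · have hP3 : P S.X₃ := (hiff.mp h2.1).2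
        refine ⟨hP3, ?_⟩
        have := Groth.Agent.H17.K0.clSub_shortExact P S hS h1.1 h2.1 hP3
        have h' : KZero.clSub P S.X₃ = KZero.clSub P S.X₂ - KZero.clSub P S.X₁ := by
          rw [this]; abel
        rw [h']
        exact H.sub_mem h2.2 h1.2
      · have hP2 : P S.X₂ := hiff.mpr ⟨h1.1, h3.1⟩
        refine ⟨hP2, ?_⟩
        rw [Groth.Agent.H17.K0.clSub_shortExact P S hS h1.1 hP2 h3.1]
        exact H.add_mem h1.2 h3.2
      · have hP1 : P S.X₁ := (hiff.mp h2.1).1
        refine ⟨hP1, ?_⟩
        have := Groth.Agent.H17.K0.clSub_shortExact P S hS hP1 h2.1 h3.1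
        have h' : KZero.clSub P S.X₁ = KZero.clSub P S.X₂ - KZero.clSub P S.X₃ := by
          rw [this]; abel
        rw [h']
        exact H.sub_mem h2.2 h3.2
    · intro Z hZ hZirr hZT y hy
      obtain ⟨F, hPF, hFH, hFZ, hlen⟩ := hgen Z hZ hZirr hZT y hy
      have cF := hPcoh F hPF
      obtain ⟨G', p, hp, hG', hG's, hk, hsub⟩ :=
        Groth.Agent.Lead.Gabriel.exists_witness F cF Z hZ
      haveI := hp
      have hyZ : y ∈ Z := by rw [← hy]; exact subset_closure rfl
      have hyF : y ∈ CohB1.support F := by
        intro hsub'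
        have h0 : Module.length (X.presheaf.stalk y) (F.presheaf.stalk y) = 0 :=
          Module.length_eq_zero_iff.mpr hsub'
        rw [hlen] at h0
        exact one_ne_zero h0
      have hyG : y ∈ CohB1.support G' := hsub ⟨hyZ, hyF⟩
      obtain ⟨hlenG, hyK⟩ := stalk_facts p y hlen hyG
      have hS : (ShortComplex.mk (kernel.ι p) p (kernel.condition p)).ShortExact :=
        { exact := ShortComplex.exact_kernel p
          mono_f := (inferInstance : Mono (kernel.ι p))
          epi_g := hp }
      have hKcoh : Coh.IsCoh (kernel p) := Groth.Agent.S0026.isCoh_kernel F G' p cF hG'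
      have hKs : CohB1.support (kernel p) ⊆ Z :=
        (Groth.Agent.H67.Dev.support_subset_of_mono (kernel.ι p)).trans hFZ
      have hPKG := (hPser _ hS hKcoh cF hG').mp hPF
      let T' : Closeds X :=
        ⟨CohB1.support (kernel p),
          @Groth.Agent.H71.QCoh.isClosed_support X (kernel p) hKcoh.1 hKcoh.2⟩
      have hT'le : T' ≤ T := fun x hx => hZT (hKs hx)
      have hT'lt : T' < T := lt_of_le_of_ne hT'le (fun h => hyK (by
        have : y ∈ (T' : Set X) := by rw [h]; exact hZT hyZ
        exact this))
      have hKH : KZero.clSub P (kernel p) ∈ H :=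
        IH T' hT'lt (fun Z' hZ' hZ'irr hZ'T y' hy' =>
          hgen Z' hZ' hZ'irr (fun x hx => hT'le (hZ'T hx)) y' hy') (kernel p) hPKG.1 subset_rfl
      have hcl := Groth.Agent.H17.K0.clSub_shortExact P _ hS hPKG.1 hPF hPKG.2
      have hcl' : KZero.clSub P G' = KZero.clSub P F - KZero.clSub P (kernel p) := by
        change KZero.clSub P F = KZero.clSub P (kernel p) + KZero.clSub P G' at hcl
        rw [hcl]; abel
      exact ⟨G', hG', ⟨hPKG.2, by rw [hcl']; exact H.sub_mem hFH hKH⟩, hG's, hk, hlenG⟩

section ClosureStructureSheaf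

/-- the structure sheaf of the reduced closed subscheme on a closed subset, as an `O_X`-module -/
noncomputable abbrev pushO (T : Closeds X) : X.Modules :=
  (Scheme.Modules.pushforward (Scheme.IdealSheafData.vanishingIdeal T).subschemeι).obj
    (Coh.structureModule (Scheme.IdealSheafData.vanishingIdeal T).subscheme)

theorem isCoh_pushO [IsNoetherian X] (T : Closeds X) : Coh.IsCoh (pushO T) :=
  Groth.Agent.S0019.result (Scheme.IdealSheafData.vanishingIdeal T).subschemeι _
    (Groth.Agent.S0026.isCoh_structureModule _)

theorem support_pushO (T : Closeds X) : CohB1.support (pushO T) = (T : Set X) := by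
  let J : X.IdealSheafData := Scheme.IdealSheafData.vanishingIdeal T
  have hri : Set.range J.subschemeι = (T : Set X) :=
    Groth.Agent.H22.CompLift.range_subschemeι_vanishingIdeal T
  apply subset_antisymm
  · rw [← hri]
    exact Groth.Agent.H71.QCoh.support_subset_range_of_iso_pushforward J.subschemeι _ _
      (Iso.refl _)
  · intro x hx
    rw [← hri] at hx
    obtain ⟨z, rfl⟩ := hx
    refine Groth.Agent.Lead.Gabriel.mem_support_pushforward J.subschemeι
      J.subschemeι.isClosedEmbedding.isInducing _ z ?_
    intro hsub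
    haveI : Subsingleton ((Coh.structureModule J.subscheme).presheaf.stalk z) := hsub
    haveI : Subsingleton (J.subscheme.presheaf.stalk z) :=
      (Groth.Agent.H79.StructStalk.structStalkEquiv J.subscheme z).toEquiv.subsingleton
    exact not_subsingleton (J.subscheme.presheaf.stalk z) inferInstance

theorem length_pushO (T : Closeds X) (hT : IsIrreducible (T : Set X)) (y : X)
    (hy : closure ({y} : Set X) = (T : Set X)) :
    Module.length (X.presheaf.stalk y) ((pushO T).presheaf.stalk y) = 1 := by
  let J : X.IdealSheafData := Scheme.IdealSheafData.vanishingIdeal T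
  haveI hint : IsIntegral J.subscheme :=
    Groth.Agent.H22.CompLift.isIntegral_subscheme_vanishingIdeal T hT
  have hri : Set.range J.subschemeι = (T : Set X) :=
    Groth.Agent.H22.CompLift.range_subschemeι_vanishingIdeal T
  have hyz : y = J.subschemeι (genericPoint J.subscheme) :=
    Groth.Agent.H67.Dev.eq_gen_of_closure_eq J.subschemeι (hy.trans hri.symm)
  subst hyz
  rw [Groth.Agent.H79.StructStalk.length_push_stalk J.subschemeι
    (Coh.structureModule J.subscheme) (genericPoint J.subscheme),
    Groth.Agent.H79.StructStalk.length_structStalk]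
  have hfield : IsField (J.subscheme.presheaf.stalk (genericPoint J.subscheme)) :=
    isField_stalk_of_closure_mem_irreducibleComponents J.subscheme _
      (by simp [irreducibleComponents_eq_singleton])
  refine Module.length_eq_one_iff.mpr (isSimpleModule_self_iff_isUnit.mpr ⟨inferInstance, ?_⟩)
  intro x hx
  exact isUnit_iff_exists_inv.mpr (hfield.mul_inv_cancel hx)

theorem closureStructureSheaf_eq (ζ : X) :
    Cyc.closureStructureSheaf ζ = pushO ⟨closure {ζ}, isClosed_closure⟩ := rfl

end ClosureStructureSheaf

end Groth.Agent.Lead.K0Dev
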