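import Mathlib
import Groth.Agent.Lead.DivAlgP
import Groth.Agent.Lead.WedderburnCubic

/-!
Lead helper: `p`-algebras of degree `p` (central division algebras of dimension `p ^ 2` in
characteristic `p`): intersection of distinct maximal subfields, Artin–Schreier elements.
-/

set_option autoImplicit false

open Polynomial

namespace Groth.Agent.Lead

universe u v

section

variable (K : Type u) [Field K] (p : ℕ) [Fact p.Prime]
  (A : Type v) [DivisionRing A] [Algebra K A] [Algebra.IsCentral K A] [FiniteDimensional K A]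

/-- If `w` commutes with `x ∉ K` and with some `z` not commuting with `x`, then `w ∈ K`. -/
theorem mem_range_of_commute_of_commute (hA : Module.finrank K A = p ^ 2) (x w z : A)
    (hx : x ∉ (algebraMap K A).range) (hwx : x * w = w * x) (hzw : w * z = z * w)
    (hzx : z * x ≠ x * z) : w ∈ (algebraMap K A).range := by
  classical
  have hp : p.Prime := Fact.out
  haveI : Fact (Irreducible (minpoly K x)) := ⟨irreducible_minpoly K A x⟩
  obtain ⟨t, ht⟩ := exists_adjoinRootEmb_eq_of_commute K p A hA x hx w hwx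
  have hL : Module.finrank K (AdjoinRoot (minpoly K x)) = p := by
    rw [finrank_adjoinRoot_minpoly, natDegree_minpoly_eq K p A hA x hx]
  have : FiniteDimensional K (AdjoinRoot (minpoly K x)) :=
    Module.finite_of_finrank_pos (by rw [hL]; exact hp.pos)
  haveI : IsSimpleOrder (IntermediateField K (AdjoinRoot (minpoly K x))) :=
    IntermediateField.isSimpleOrder_of_finrank_prime K _ (by rw [hL]; exact hp)
  rcases eq_bot_or_eq_top (IntermediateField.adjoin K {t}) with hb | htop
  · have hmem : t ∈ (⊥ : IntermediateField K (AdjoinRoot (minpoly K x))) :=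
      hb ▸ IntermediateField.mem_adjoin_simple_self K t
    obtain ⟨a, ha⟩ := IntermediateField.mem_bot.mp hmem
    refine ⟨a, ?_⟩
    rw [← ht, ← ha]
    exact ((adjoinRootEmb K A x).commutes a).symm
  · exfalso
    have hroot : AdjoinRoot.root (minpoly K x) ∈ IntermediateField.adjoin K {t} :=
      htop ▸ IntermediateField.mem_top
    have hti : IsIntegral K t := Algebra.IsIntegral.isIntegral t
    rw [← IntermediateField.mem_toSubalgebra,
      IntermediateField.adjoin_simple_toSubalgebra_of_isAlgebraic hti.isAlgebraic,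
      Algebra.adjoin_singleton_eq_range_aeval] at hroot
    obtain ⟨g, hg⟩ := hroot
    have hxg : x = aeval w g := by
      rw [← adjoinRootEmb_root K A x, ← ht]
      have hg' : aeval t g = AdjoinRoot.root (minpoly K x) := hg
      rw [← hg']
      exact (Polynomial.aeval_algHom_apply (adjoinRootEmb K A x) t g).symm
    apply hzx
    have hcomm := commute_aeval_of_commute K A w z hzw g
    rw [← hxg] at hcomm
    exact hcomm.symm

variable [CharP K p]

/-- an inseparable element has its `p`-th power in `K`. -/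
theorem pow_char_mem_of_not_isSeparable (hA : Module.finrank K A = p ^ 2) (v : A)
    (hv : ¬ IsSeparable K v) : v ^ p ∈ (algebraMap K A).range ∧ v ∉ (algebraMap K A).range := by
  have hp : p.Prime := Fact.out
  have hvK : v ∉ (algebraMap K A).range := by
    rintro ⟨a, rfl⟩
    apply hv
    exact isSeparable_algebraMap (F := K) (K := A) a
  refine ⟨?_, hvK⟩
  have hirr := irreducible_minpoly K A v
  have hdeg := natDegree_minpoly_eq K p A hA v hvK
  rcases Polynomial.separable_or p hirr with h | ⟨-, g, -, hg⟩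
  · exact absurd h hv
  · have hmonic : (minpoly K v).Monic := minpoly.monic (Algebra.IsIntegral.isIntegral v)
    rw [← hg] at hmonic hdeg
    have hgm : g.Monic := (monic_expand_iff hp.pos).mp hmonic
    rw [natDegree_expand] at hdeg
    have hg1 : g.natDegree = 1 := by
      have : g.natDegree * p = 1 * p := by rw [hdeg, one_mul]
      exact Nat.eq_of_mul_eq_mul_right hp.pos this
    have hgX := hgm.eq_X_add_C hg1
    have hav : aeval v (minpoly K v) = 0 := minpoly.aeval K v
    rw [← hg, hgX, map_add, expand_X, expand_C, map_add, map_pow, aeval_X, aeval_C] at hav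
    refine ⟨-(g.coeff 0), ?_⟩
    rw [map_neg]
    exact (eq_neg_of_add_eq_zero_left hav).symm

/-- Artin–Schreier element: if `v ∉ K` and `v ^ p ∈ K` there is `t` with `v t v⁻¹ = t + 1`. -/
theorem exists_shift (v : A) (hvK : v ∉ (algebraMap K A).range)
    (hvp : v ^ p ∈ (algebraMap K A).range) : ∃ t : A, v * t = (t + 1) * v := by
  classical
  have hv0 : v ≠ 0 := by
    rintro rfl
    exact hvK ⟨0, by simp⟩
  let uv : Aˣ := Units.mk0 v hv0
  let Cv : Module.End K A := (Wedderburn.conjAlgHom (K := K) uv).toLinearMap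
  have hCv : ∀ y, Cv y = v * y * v⁻¹ := fun y => by
    change (uv : A) * y * ((uv⁻¹ : Aˣ) : A) = v * y * v⁻¹
    rw [Units.val_inv_eq_inv_val]
    rfl
  have hpow : ∀ (n : ℕ) (y : A), (Cv ^ n) y = v ^ n * y * (v⁻¹) ^ n := by
    intro n
    induction n with
    | zero => intro y; simp
    | succ n ih =>
      intro y
      rw [pow_succ', Module.End.mul_apply, ih, hCv, pow_succ', pow_succ]
      simp only [mul_assoc]
  have hCvp : Cv ^ p = 1 := by
    apply LinearMap.ext
    intro y
    rw [hpow]
    obtain ⟨a, ha⟩ := hvp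
    have ha0 : algebraMap K A a ≠ 0 := by rw [ha]; exact pow_ne_zero p hv0
    rw [inv_pow, ← ha, Algebra.commutes, mul_assoc, mul_inv_cancel₀ ha0, mul_one]
    rfl
  haveI : CharP (Module.End K A) p :=
    charP_of_injective_algebraMap (algebraMap K (Module.End K A)).injective p
  have hDp : (Cv - 1) ^ p = 0 := by
    rw [sub_pow_char_of_commute _ (Commute.one_right _), hCvp, one_pow, sub_self]
  have hDapp : ∀ y, (Cv - 1) y = v * y * v⁻¹ - y := fun y => by
    rw [LinearMap.sub_apply, hCv, Module.End.one_apply]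
  obtain ⟨y₀, hy₀⟩ : ∃ y₀, (Cv - 1) y₀ ≠ 0 := by
    by_contra h
    push_neg at h
    apply hvK
    have hc : v ∈ Subalgebra.center K A := by
      rw [Subalgebra.mem_center_iff]
      intro b
      have hb := h b
      rw [hDapp, sub_eq_zero] at hb
      have : v * b * v⁻¹ * v = b * v := by rw [hb]
      rw [mul_assoc, inv_mul_cancel₀ hv0, mul_one] at this
      exact this.symm
    rw [Algebra.IsCentral.center_eq_bot] at hc
    exact Algebra.mem_bot.mp hc
  have hex : ∃ n : ℕ, ((Cv - 1) ^ n : Module.End K A) y₀ = 0 := ⟨p, by rw [hDp]; rfl⟩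
  have hn : ((Cv - 1) ^ (Nat.find hex)) y₀ = 0 := Nat.find_spec hex
  have hn0 : Nat.find hex ≠ 0 := by
    intro h0
    rw [h0, pow_zero, Module.End.one_apply] at hn
    rw [hn, map_zero] at hy₀
    exact hy₀ rfl
  have hn1 : Nat.find hex ≠ 1 := by
    intro h1
    rw [h1, pow_one] at hn
    exact hy₀ hn
  obtain ⟨m, hm⟩ : ∃ m, Nat.find hex = m + 2 := ⟨Nat.find hex - 2, by omega⟩
  have hc : ((Cv - 1) ^ (m + 1)) y₀ ≠ 0 := Nat.find_min hex (by omega : m + 1 < Nat.find hex)
  have hDc : (Cv - 1) (((Cv - 1) ^ (m + 1)) y₀) = 0 := by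
    rw [← Module.End.mul_apply, ← pow_succ', ← hm]
    exact hn
  have hcy : ((Cv - 1) ^ (m + 1)) y₀ = (Cv - 1) (((Cv - 1) ^ m) y₀) := by
    rw [pow_succ', Module.End.mul_apply]
  generalize ((Cv - 1) ^ (m + 1)) y₀ = c at hc hDc hcy
  generalize ((Cv - 1) ^ m) y₀ = y at hcy
  rw [hDapp, sub_eq_zero] at hDc
  rw [hDapp] at hcy
  have hvc : v * c = c * v := by
    have : v * c * v⁻¹ * v = c * v := by rw [hDc]
    rwa [mul_assoc, inv_mul_cancel₀ hv0, mul_one] at this
  have hvy : v * y = (y + c) * v := by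
    have h1 : v * y * v⁻¹ = y + c := by rw [hcy]; abel
    have : v * y * v⁻¹ * v = (y + c) * v := by rw [h1]
    rwa [mul_assoc, inv_mul_cancel₀ hv0, mul_one] at this
  have hvci : v * c⁻¹ = c⁻¹ * v := by
    calc v * c⁻¹ = c⁻¹ * (c * v) * c⁻¹ := by rw [← mul_assoc, inv_mul_cancel₀ hc, one_mul]
      _ = c⁻¹ * (v * c) * c⁻¹ := by rw [hvc]
      _ = c⁻¹ * v := by rw [mul_assoc, mul_assoc, mul_inv_cancel₀ hc, mul_one]
  refine ⟨c⁻¹ * y, ?_⟩
  calc v * (c⁻¹ * y) = c⁻¹ * (v * y) := by rw [← mul_assoc, hvci, mul_assoc]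
    _ = c⁻¹ * ((y + c) * v) := by rw [hvy]
    _ = (c⁻¹ * y + 1) * v := by rw [← mul_assoc, mul_add, inv_mul_cancel₀ hc]

end

end Groth.Agent.Lead
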